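import Mathlib
import Groth.Agent.Lib.Helper5.TBC.Pushout
import Groth.Agent.Lib.Helper5.KFlat.LBCFlat
import Groth.Agent.Lib.Helper5.TensorAmp.TensorAmpG

/-!
# Base change of tor amplitude along a tor independent cocartesian square of rings (helper5)
-/
set_option autoImplicit false
set_option linter.unusedSectionVars false
set_option linter.unusedVariables false
set_option linter.style.haveILetI false
universe u
open CategoryTheory CategoryTheory.Limits MonoidalCategory
attribute [local instance] HasDerivedCategory.standard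

namespace Groth.Agent.Lib.Helper5.FibStalk

open Groth.Agent.Lib.Helper5.TBC Groth.Agent.Lib.Helper5.KFlat Groth.Agent.Lib.Helper5.KProj
open Groth.Agent.Lib.Helper5.DTenLib Groth.Agent.Lib.Helper5.TensorAmp
open Groth.Agent.Helper5.TorAmp Groth.Agent.Helper1.TorL
open DTen _root_.Helper5.Gen

section Square

variable {R A R' A' : Type u} [CommRing R] [CommRing A] [CommRing R'] [CommRing A']
  {φ : R →+* A} {ρ : R →+* R'} {α : A →+* A'} {φ' : R' →+* A'} (h : α.comp φ = φ'.comp ρ)

/-- tor independence when `A` is flat over `R` -/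
theorem torIndep_of_flat_left (hA : letI := φ.toAlgebra; Module.Flat R A) : TorIndep φ ρ := by
  letI := φ.toAlgebra
  haveI : Module.Flat R ((ModuleCat.restrictScalars.{u} φ).obj (ModuleCat.of A A)) := hA
  exact TA.of_flat _ _

/-- tor independence when `R'` is flat over `R` -/
theorem torIndep_of_flat_right (hR' : letI := ρ.toAlgebra; Module.Flat R R') : TorIndep φ ρ := by
  letI := ρ.toAlgebra
  haveI : Module.Flat R (SR ρ) := hR'
  intro n
  exact isZero_tor_succ_of_flat_right (SR ρ) n
    ((ModuleCat.restrictScalars.{u} φ).obj (ModuleCat.of A A))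

/-- **base change of tor amplitude** along a tor independent cocartesian square -/
theorem hasTorAmplitudeIn_square (hc : IsCocart h) (hta : TorIndep φ ρ) (K : DRing.Cx A)
    (hK : DRing.IsKFlat A K) (a b : ℤ)
    (hKR : DRing.HasTorAmplitudeIn R a b (DRing.toD ((resCx φ).obj K))) :
    DRing.HasTorAmplitudeIn R' a b (DRing.toD ((resCx φ').obj ((extCx α).obj K))) := by
  have h1 := hasTorAmplitudeIn_LBaseChange ρ _ a b hKR
  haveI := isIso_cmp h hc hta (myAdj ρ) (myAdj α) (DRing.toD K)
  let e : (DRing.LBaseChange ρ).obj (DRing.toD ((resCx φ).obj K)) ≅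
      DRing.toD ((resCx φ').obj ((extCx α).obj K)) :=
    (DRing.LBaseChange ρ).mapIso ((resFactors φ).app K).symm ≪≫
      asIso (TrivBC.cmp (myAdj ρ) (myAdj α) h (DRing.toD K)) ≪≫
      (DRing.restrictD φ').mapIso (lbcIsoFlat α K hK) ≪≫
      (resFactors φ').app ((bcCx α).obj K)
  exact hasTorAmplitudeIn_of_iso e h1

/-- the same followed by a flat extension `τ : A' → C` -/
theorem torVanF_square_local {C : Type u} [CommRing C] (τ : A' →+* C)
    (hτ : letI := τ.toAlgebra; Module.Flat A' C)
    (hc : IsCocart h) (hta : TorIndep φ ρ) (K : DRing.Cx A)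
    (hK : DRing.IsKFlat A K) (a b : ℤ)
    (hKR : DRing.HasTorAmplitudeIn R a b (DRing.toD ((resCx φ).obj K))) :
    TorVanF a b ((resCx (τ.comp φ')).obj ((extCx (τ.comp α)).obj K)) := by
  have h1 := torVanF_of_hasTorAmplitudeIn _ a b (hasTorAmplitudeIn_square h hc hta K hK a b hKR)
  have hepi : ∀ N' : ModuleCat.{u} R',
      IsIso ((ModuleCat.extendRestrictScalarsAdj.{u, u, u} (RingHom.id R')).counit.app N') :=
    fun N' => by
      letI : Algebra R' R' := (RingHom.id R').toAlgebra
      exact isIso_counit_of_isLocalization (RingHom.id R') ⊥ (by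
        exact (IsLocalization.of_le_isUnit (S := (⊥ : Submonoid R')) (by
          intro x hx
          rw [Submonoid.mem_bot] at hx
          rw [hx]
          exact isUnit_one))) N'
  have h2 := torVanF_local_of_global φ' (RingHom.id R') τ (τ.comp φ') (by rfl)
    (by
      letI := (RingHom.id R').toAlgebra
      exact (Module.Flat.self : Module.Flat R' R')) hτ hepi ((extCx α).obj K) a b h1
  refine (torVanF_iff_of_iso ((resCx (τ.comp φ')).mapIso ((extCompCx α τ).app K)) a b).1 h2

end Square

end Groth.Agent.Lib.Helper5.FibStalk
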