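import Mathlib
import Groth.Agent.Lib.Helper5.FibStalk.RingBC

/-!
# Acyclicity after base change along a cocartesian square of rings (helper5)
-/
set_option autoImplicit false
set_option linter.unusedSectionVars false
set_option linter.unusedVariables false
set_option linter.style.haveILetI false
universe u
open CategoryTheory CategoryTheory.Limits MonoidalCategory
attribute [local instance] HasDerivedCategory.standard

namespace Groth.Agent.Lib.Helper5.FibStalk

open Groth.Agent.Lib.Helper5.TBC Groth.Agent.Lib.Helper5.KFlat Groth.Agent.Lib.Helper5.KProj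
open Groth.Agent.Lib.Helper5.DTenLib Groth.Agent.Lib.Helper5.TensorAmp
open Groth.Agent.Helper5.TorAmp Groth.Agent.Helper1.TorL Groth.Agent.Helper5.FlatBC
open Groth.Agent.Helper5.FlatAcyc Groth.Agent.Lib.Helper5.KSixLT Groth.Agent.Lib.Helper5.NilTor
open DTen _root_.Helper5.Gen

section KF

variable {R A : Type u} [CommRing R] [CommRing A] (φ : R →+* A)

/-- flat extension of scalars preserves acyclicity -/
theorem acyc_extCx_of_flat (hφ : letI := φ.toAlgebra; Module.Flat R A) (L : DRing.Cx R)
    (hL : ∀ i : ℤ, IsZero (L.homology i)) (i : ℤ) : IsZero (((extCx φ).obj L).homology i) := by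
  letI : Algebra R A := φ.toAlgebra
  haveI : Module.Flat R A := hφ
  exact IsZero.of_iso ((Ef A).map_isZero (hL i)) (homIso A L i)

/-- restriction along a flat ring map preserves K-flatness -/
theorem isKFlat_resCx_of_flat (hφ : letI := φ.toAlgebra; Module.Flat R A) (P : DRing.Cx A)
    (hP : DRing.IsKFlat A P) : DRing.IsKFlat R ((resCx φ).obj P) := by
  intro L hL i
  have h1 := hP ((extCx φ).obj L) (acyc_extCx_of_flat φ hφ L hL) i
  have e0 : L ⊗ (resCx φ).obj P ≅ (resCx φ).obj ((extCx φ).obj L ⊗ P) := asIso (pf φ L P)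
  exact IsZero.of_iso ((isZero_homology_resCx_iff φ _ i).2 h1)
    ((HomologicalComplex.homologyFunctor _ _ i).mapIso e0)

/-- a K-flat acyclic complex stays acyclic after tensoring with a module -/
theorem acyc_TM_of_isKFlat (M : ModuleCat.{u} R) (W : DRing.Cx R) (hW : DRing.IsKFlat R W)
    (hac : ∀ i : ℤ, IsZero (W.homology i)) (i : ℤ) : IsZero (((TM M).obj W).homology i) := by
  have q2 : QuasiIso (resMap (S M) ▷ W) := quasiIso_whiskerRight hW (resMap (S M)) inferInstance
  have h1 : IsZero ((res (S M) ⊗ W).homology i) :=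
    IsZero.of_iso (isKFlat_res (S M) W hac i)
      ((HomologicalComplex.homologyFunctor _ _ i).mapIso (DTen.braidCx (res (S M)) W))
  have h2 : IsZero ((S M ⊗ W).homology i) := (isZero_homology_iff_of_quasiIso' _ q2 i).1 h1
  exact IsZero.of_iso h2
    ((HomologicalComplex.homologyFunctor _ _ i).mapIso (singleTensorIso M W).symm)

/-- a K-flat acyclic complex stays acyclic after any extension of scalars -/
theorem acyc_extCx_of_isKFlat (W : DRing.Cx R) (hW : DRing.IsKFlat R W)
    (hac : ∀ i : ℤ, IsZero (W.homology i)) (i : ℤ) : IsZero (((extCx φ).obj W).homology i) := by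
  rw [← isZero_homology_resCx_iff φ _ i]
  exact IsZero.of_iso (acyc_TM_of_isKFlat (SR φ) W hW hac i)
    ((HomologicalComplex.homologyFunctor _ _ i).mapIso ((extResCxIso φ).app W))

end KF

section Square

variable {R A R' A' : Type u} [CommRing R] [CommRing A] [CommRing R'] [CommRing A']
  {φ : R →+* A} {ρ : R →+* R'} {α : A →+* A'} {φ' : R' →+* A'} (h : α.comp φ = φ'.comp ρ)

/-- **acyclicity after base change**: an acyclic complex over `A` which is K-flat over `R`
stays acyclic after extension of scalars to a flat algebra over `A' = A ⊗_R R'` -/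
theorem acyc_extCx_square (hc : IsCocart h) {C : Type u} [CommRing C] (τ : A' →+* C)
    (hτ : letI := τ.toAlgebra; Module.Flat A' C) (Z : DRing.Cx A)
    (hZ : DRing.IsKFlat R ((resCx φ).obj Z)) (hac : ∀ i : ℤ, IsZero (Z.homology i)) (i : ℤ) :
    IsZero (((extCx (τ.comp α)).obj Z).homology i) := by
  have h1 : ∀ i : ℤ, IsZero (((resCx φ).obj Z).homology i) :=
    fun i => (isZero_homology_resCx_iff φ Z i).2 (hac i)
  have h2 := acyc_extCx_of_isKFlat ρ _ hZ h1
  haveI := isIso_κcx h hc Z
  have h3 : ∀ i : ℤ, IsZero (((resCx φ').obj ((extCx α).obj Z)).homology i) := fun i =>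
    IsZero.of_iso (h2 i) ((HomologicalComplex.homologyFunctor _ _ i).mapIso (asIso (κcx h Z)).symm)
  have h4 : ∀ i : ℤ, IsZero (((extCx α).obj Z).homology i) :=
    fun i => (isZero_homology_resCx_iff φ' _ i).1 (h3 i)
  exact IsZero.of_iso (acyc_extCx_of_flat τ hτ _ h4 i)
    ((HomologicalComplex.homologyFunctor _ _ i).mapIso ((extCompCx α τ).app Z).symm)

end Square

end Groth.Agent.Lib.Helper5.FibStalk
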