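import Mathlib
import Groth.Agent.Lib.Helper5.FibStalk.AcycBC
import Groth.Agent.Lib.Helper5.DTenLib.ExtQis
import Groth.Agent.Lib.Helper5.DRing.PCHom

/-!
# Base change of tor amplitude for morphisms of flat algebras over a base (helper5)

`k → B₂ → A₂` with `B₂` and `A₂` flat over `k`, and `B₁` any `k`-algebra: a K-flat complex over
`A₂` with tor amplitude in `[a, b]` over `B₂` has, after extension of scalars to
`A₂ ⊗_k B₁`, tor amplitude in `[a, b]` over `B₂ ⊗_k B₁`.
-/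
set_option autoImplicit false
set_option linter.unusedSectionVars false
set_option linter.unusedVariables false
set_option linter.style.haveILetI false
universe u
open CategoryTheory CategoryTheory.Limits MonoidalCategory
attribute [local instance] HasDerivedCategory.standard

namespace Groth.Agent.Lib.Helper5.FibStalk

open Groth.Agent.Lib.Helper5.TBC Groth.Agent.Lib.Helper5.KFlat Groth.Agent.Lib.Helper5.KProj
open Groth.Agent.Lib.Helper5.DTenLib Groth.Agent.Lib.Helper5.TensorAmp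
open Groth.Agent.Helper5.TorAmp Groth.Agent.Helper1.TorL Groth.Agent.Helper5.FlatBC
open Groth.Agent.Helper5.FlatAcyc Groth.Agent.Lib.Helper5.KSixLT Groth.Agent.Lib.Helper5.NilTor
open DTen _root_.Helper5.Gen

section Nat

variable {R A R' A' : Type u} [CommRing R] [CommRing A] [CommRing R'] [CommRing A']
  {φ : R →+* A} {ρ : R →+* R'} {α : A →+* A'} {φ' : R' →+* A'} (h : α.comp φ = φ'.comp ρ)

theorem κmod_naturality {X Y : ModuleCat.{u} A} (f : X ⟶ Y) :
    (ModuleCat.extendScalars.{u, u, u} ρ).map ((ModuleCat.restrictScalars.{u} φ).map f) ≫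
        κmod h Y =
      κmod h X ≫ (ModuleCat.restrictScalars.{u} φ').map
        ((ModuleCat.extendScalars.{u, u, u} α).map f) := by
  dsimp only [κmod]
  have e1 := (adjE α).unit.naturality f
  have e2 := (TrivBC.resCommMod h).hom.naturality ((ModuleCat.extendScalars.{u, u, u} α).map f)
  have e3 := (adjE ρ).counit.naturality
    ((ModuleCat.restrictScalars.{u} φ').map ((ModuleCat.extendScalars.{u, u, u} α).map f))
  dsimp at e1 e2 e3
  rw [← Functor.map_comp_assoc, ← Functor.map_comp_assoc, e1, Functor.map_comp_assoc,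
    Category.assoc, ← e3, ← Functor.map_comp_assoc, ← Functor.map_comp_assoc]
  congr 2

theorem κcx_naturality {P Q : DRing.Cx A} (g : P ⟶ Q) :
    (bcCx ρ).map ((rsCx φ).map g) ≫ κcx h Q = κcx h P ≫ (rsCx φ').map ((bcCx α).map g) := by
  ext i : 1
  rw [HomologicalComplex.comp_f, HomologicalComplex.comp_f, κcx_f, κcx_f]
  exact κmod_naturality h (g.f i)

/-- in a cocartesian square `R → A, R → R'`, extension of scalars along `A → A'` preserves
quasi-isomorphisms between complexes over `A` which are K-flat over `R` -/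
theorem quasiIso_bcCx_of_isKFlat_base (hc : IsCocart h) {P Q : DRing.Cx A} (g : P ⟶ Q)
    (hg : QuasiIso g) (hP : DRing.IsKFlat R ((rsCx φ).obj P))
    (hQ : DRing.IsKFlat R ((rsCx φ).obj Q)) : QuasiIso ((bcCx α).map g) := by
  have q1 : QuasiIso ((rsCx φ).map g) := (quasiIso_rsCx_map_iff φ g).2 hg
  have q2 : QuasiIso ((bcCx ρ).map ((rsCx φ).map g)) :=
    quasiIso_extCx_map ρ ((rsCx φ).map g) hP hQ q1
  haveI := isIso_κcx h hc P
  haveI := isIso_κcx h hc Q
  have e : (rsCx φ').map ((bcCx α).map g) =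
      inv (κcx h P) ≫ ((bcCx ρ).map ((rsCx φ).map g)) ≫ κcx h Q := by
    rw [κcx_naturality, IsIso.inv_hom_id_assoc]
  have q3 : QuasiIso ((rsCx φ').map ((bcCx α).map g)) := by
    rw [e]
    infer_instance
  exact (quasiIso_rsCx_map_iff φ' _).1 q3

end Nat

section NF

variable {k B₁ B₂ A₂ TV TU : Type u} [CommRing k] [CommRing B₁] [CommRing B₂] [CommRing A₂]
  [CommRing TV] [CommRing TU]
  {β₁ : k →+* B₁} {β₂ : k →+* B₂} {φ : B₂ →+* A₂} {j₁ : B₁ →+* TV} {j₂ : B₂ →+* TV}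
  {i₂ : A₂ →+* TU} {m : TV →+* TU}
  (h₀ : j₂.comp β₂ = j₁.comp β₁) (h₁ : i₂.comp φ = m.comp j₂)

/-- **base change of tor amplitude for a morphism of flat algebras**: `B₂` and `A₂` flat over
`k`, `TV = B₂ ⊗_k B₁`, `TU = A₂ ⊗_{B₂} TV` -/
theorem hasTorAmplitudeIn_nf (hc₀ : IsCocart h₀) (hc₁ : IsCocart h₁)
    (hβ₂ : letI := β₂.toAlgebra; Module.Flat k B₂)
    (hφβ : letI := (φ.comp β₂).toAlgebra; Module.Flat k A₂)
    (K : DRing.Cx A₂) (hK : DRing.IsKFlat A₂ K) (a b : ℤ)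
    (hKR : DRing.HasTorAmplitudeIn B₂ a b (DRing.toD ((resCx φ).obj K))) :
    DRing.HasTorAmplitudeIn TV a b (DRing.toD ((resCx m).obj ((extCx i₂).obj K))) := by
  let Z : DRing.Cx B₂ := (resCx φ).obj K
  have hZk : DRing.IsKFlat k ((rsCx β₂).obj Z) :=
    isKFlat_of_iso (Groth.Agent.Helper5.PCHom.resCxComp β₂ φ (φ.comp β₂) rfl K)
      (isKFlat_resCx_of_flat (φ.comp β₂) hφβ K hK)
  let G : DRing.Cx B₂ := res Z
  let g : G ⟶ Z := resMap Z
  have hG : DRing.IsKFlat B₂ G := isKFlat_res Z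
  have hGk : DRing.IsKFlat k ((rsCx β₂).obj G) := isKFlat_resCx_of_flat β₂ hβ₂ G hG
  haveI hg : QuasiIso g := inferInstance
  haveI q : QuasiIso ((bcCx j₂).map g) := quasiIso_bcCx_of_isKFlat_base h₀ hc₀ g hg hGk hZk
  haveI := isIso_κcx h₁ hc₁ K
  let e : (DRing.LBaseChange j₂).obj (DRing.toD Z) ≅
      DRing.toD ((resCx m).obj ((extCx i₂).obj K)) :=
    (DRing.LBaseChange j₂).mapIso (asIso (DerivedCategory.Q.map g)).symm ≪≫
      lbcIsoFlat j₂ G hG ≪≫ asIso (DerivedCategory.Q.map ((bcCx j₂).map g)) ≪≫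
      DerivedCategory.Q.mapIso (asIso (κcx h₁ K))
  exact hasTorAmplitudeIn_of_iso e (hasTorAmplitudeIn_LBaseChange j₂ _ a b hKR)

/-- the same, followed by a flat extension `τ : TU → C` and a localisation `ℓ : TV → BY` -/
theorem torVanF_nf_local {BY C : Type u} [CommRing BY] [CommRing C] (τ : TU →+* C)
    (ℓ : TV →+* BY) (ψ : BY →+* C) (hcomm : τ.comp m = ψ.comp ℓ)
    (hτ : letI := τ.toAlgebra; Module.Flat TU C)
    (hℓ : letI := ℓ.toAlgebra; Module.Flat TV BY)
    (hepi : ∀ N' : ModuleCat.{u} BY,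
      IsIso ((ModuleCat.extendRestrictScalarsAdj.{u, u, u} ℓ).counit.app N'))
    (hc₀ : IsCocart h₀) (hc₁ : IsCocart h₁)
    (hβ₂ : letI := β₂.toAlgebra; Module.Flat k B₂)
    (hφβ : letI := (φ.comp β₂).toAlgebra; Module.Flat k A₂)
    (K : DRing.Cx A₂) (hK : DRing.IsKFlat A₂ K) (a b : ℤ)
    (hKR : DRing.HasTorAmplitudeIn B₂ a b (DRing.toD ((resCx φ).obj K))) :
    TorVanF a b ((resCx ψ).obj ((extCx (τ.comp i₂)).obj K)) := by
  have h1 := torVanF_of_hasTorAmplitudeIn _ a b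
    (hasTorAmplitudeIn_nf h₀ h₁ hc₀ hc₁ hβ₂ hφβ K hK a b hKR)
  have h2 := torVanF_local_of_global m ℓ τ ψ hcomm hℓ hτ hepi ((extCx i₂).obj K) a b h1
  exact (torVanF_iff_of_iso ((resCx ψ).mapIso ((extCompCx i₂ τ).app K)) a b).1 h2

end NF

end Groth.Agent.Lib.Helper5.FibStalk
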