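import Mathlib

/-!
# The local ring of a fibre product at a point (helper5)

For a cartesian square `P = X ×_S Y` and a point `p` of `P` with images `x`, `y`, `s`, the canonical
map `O_{X,x} ⊗_{O_{S,s}} O_{Y,y} ⟶ O_{P,p}` identifies `O_{P,p}` with the localisation of the
tensor product at a prime ideal.  The tensor product is realised as a pushout in `CommRingCat`.
-/
set_option autoImplicit false
set_option linter.unusedSectionVars false
set_option linter.unusedVariables false
set_option linter.style.haveILetI false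
universe u
open CategoryTheory CategoryTheory.Limits AlgebraicGeometry

namespace Groth.Agent.Lib.Helper5.FibStalk

variable {X Y S P : Scheme.{u}} {fst : P ⟶ X} {snd : P ⟶ Y} {f : X ⟶ S} {g : Y ⟶ S}

theorem base_eq (h : IsPullback fst snd f g) (p : P) :
    g.base (snd.base p) = f.base (fst.base p) := by
  have := congrArg (fun φ : P ⟶ S => φ.base p) h.w
  simpa using this.symm

/-- `O_{S,s} ⟶ O_{X,x}` -/
noncomputable abbrev stA (f : X ⟶ S) (fst : P ⟶ X) (p : P) :
    S.presheaf.stalk (f.base (fst.base p)) ⟶ X.presheaf.stalk (fst.base p) :=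
  f.stalkMap (fst.base p)

/-- `O_{S,s} ⟶ O_{Y,y}` -/
noncomputable def stB (h : IsPullback fst snd f g) (p : P) :
    S.presheaf.stalk (f.base (fst.base p)) ⟶ Y.presheaf.stalk (snd.base p) :=
  S.presheaf.stalkSpecializes (specializes_of_eq (base_eq h p)) ≫ g.stalkMap (snd.base p)

theorem stalk_w (h : IsPullback fst snd f g) (p : P) :
    stA f fst p ≫ fst.stalkMap p = stB h p ≫ snd.stalkMap p := by
  have e1 := Scheme.Hom.stalkMap_comp fst f p
  have e2 := Scheme.Hom.stalkMap_comp snd g p
  have e3 := Scheme.Hom.stalkMap_congr_hom (fst ≫ f) (snd ≫ g) h.w p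
  rw [e1, e2] at e3
  rw [stB, Category.assoc]
  exact e3

/-- the tensor product `O_{X,x} ⊗_{O_{S,s}} O_{Y,y}` -/
noncomputable abbrev T (h : IsPullback fst snd f g) (p : P) : CommRingCat.{u} :=
  pushout (stA f fst p) (stB h p)

noncomputable abbrev inl (h : IsPullback fst snd f g) (p : P) :
    X.presheaf.stalk (fst.base p) ⟶ T h p := pushout.inl _ _

noncomputable abbrev inr (h : IsPullback fst snd f g) (p : P) :
    Y.presheaf.stalk (snd.base p) ⟶ T h p := pushout.inr _ _

/-- the canonical map `O_{X,x} ⊗_{O_{S,s}} O_{Y,y} ⟶ O_{P,p}` -/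
noncomputable def can (h : IsPullback fst snd f g) (p : P) : T h p ⟶ P.presheaf.stalk p :=
  pushout.desc (fst.stalkMap p) (snd.stalkMap p) (stalk_w h p)

@[reassoc (attr := simp)]
theorem inl_can (h : IsPullback fst snd f g) (p : P) : inl h p ≫ can h p = fst.stalkMap p :=
  pushout.inl_desc _ _ _

@[reassoc (attr := simp)]
theorem inr_can (h : IsPullback fst snd f g) (p : P) : inr h p ≫ can h p = snd.stalkMap p :=
  pushout.inr_desc _ _ _

theorem isPullback_Spec (h : IsPullback fst snd f g) (p : P) :
    IsPullback (Spec.map (inl h p)) (Spec.map (inr h p)) (Spec.map (stA f fst p))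
      (Spec.map (stB h p)) :=
  isPullback_SpecMap_pushout _ _

theorem u_cond (h : IsPullback fst snd f g) (p : P) :
    (Spec.map (inl h p) ≫ X.fromSpecStalk (fst.base p)) ≫ f =
      (Spec.map (inr h p) ≫ Y.fromSpecStalk (snd.base p)) ≫ g := by
  rw [Category.assoc, Category.assoc, ← Scheme.SpecMap_stalkMap_fromSpecStalk,
    ← Scheme.SpecMap_stalkMap_fromSpecStalk,
    ← Scheme.SpecMap_stalkSpecializes_fromSpecStalk (specializes_of_eq (base_eq h p)),
    ← Spec.map_comp_assoc, ← Spec.map_comp_assoc, ← Spec.map_comp_assoc]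
  congr 2
  have := pushout.condition (f := stA f fst p) (g := stB h p)
  rw [stB, Category.assoc] at this
  exact this

/-- `Spec (O_{X,x} ⊗ O_{Y,y}) ⟶ P` -/
noncomputable def u (h : IsPullback fst snd f g) (p : P) : Spec (T h p) ⟶ P :=
  h.lift _ _ (u_cond h p)

@[reassoc (attr := simp)]
theorem u_fst (h : IsPullback fst snd f g) (p : P) :
    u h p ≫ fst = Spec.map (inl h p) ≫ X.fromSpecStalk (fst.base p) := h.lift_fst _ _ _

@[reassoc (attr := simp)]
theorem u_snd (h : IsPullback fst snd f g) (p : P) :
    u h p ≫ snd = Spec.map (inr h p) ≫ Y.fromSpecStalk (snd.base p) := h.lift_snd _ _ _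

instance mono_u (h : IsPullback fst snd f g) (p : P) : Mono (u h p) where
  right_cancellation {W} α β hαβ := by
    apply (isPullback_Spec h p).hom_ext
    · rw [← cancel_mono (X.fromSpecStalk (fst.base p)), Category.assoc, Category.assoc,
        ← u_fst, ← Category.assoc, ← Category.assoc, hαβ]
    · rw [← cancel_mono (Y.fromSpecStalk (snd.base p)), Category.assoc, Category.assoc,
        ← u_snd, ← Category.assoc, ← Category.assoc, hαβ]

/-- `Spec O_{P,p} ⟶ Spec (O_{X,x} ⊗ O_{Y,y})` -/
noncomputable abbrev v (h : IsPullback fst snd f g) (p : P) :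
    Spec (P.presheaf.stalk p) ⟶ Spec (T h p) := Spec.map (can h p)

theorem v_u (h : IsPullback fst snd f g) (p : P) : v h p ≫ u h p = P.fromSpecStalk p := by
  apply h.hom_ext
  · rw [Category.assoc, u_fst, ← Spec.map_comp_assoc, inl_can,
      Scheme.SpecMap_stalkMap_fromSpecStalk]
  · rw [Category.assoc, u_snd, ← Spec.map_comp_assoc, inr_can,
      Scheme.SpecMap_stalkMap_fromSpecStalk]

/-- the point of `Spec (O_{X,x} ⊗ O_{Y,y})` below `p` -/
noncomputable abbrev t (h : IsPullback fst snd f g) (p : P) : Spec (T h p) :=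
  (v h p).base (IsLocalRing.closedPoint (P.presheaf.stalk p))

/-- the induced map from the localisation `(O_{X,x} ⊗ O_{Y,y})_t` to `O_{P,p}` -/
noncomputable def locTo (h : IsPullback fst snd f g) (p : P) :
    (Spec (T h p)).presheaf.stalk (t h p) ⟶ P.presheaf.stalk p :=
  Scheme.stalkClosedPointTo (v h p)

theorem locTo_spec (h : IsPullback fst snd f g) (p : P) :
    Spec.map (locTo h p) ≫ (Spec (T h p)).fromSpecStalk (t h p) = v h p :=
  Scheme.Spec_stalkClosedPointTo_fromSpecStalk (v h p)

/-- `Spec (O_{X,x} ⊗ O_{Y,y})_t ⟶ P` -/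
noncomputable abbrev u' (h : IsPullback fst snd f g) (p : P) :
    Spec ((Spec (T h p)).presheaf.stalk (t h p)) ⟶ P :=
  (Spec (T h p)).fromSpecStalk (t h p) ≫ u h p

theorem u'_closedPoint (h : IsPullback fst snd f g) (p : P) :
    (u' h p).base (IsLocalRing.closedPoint ((Spec (T h p)).presheaf.stalk (t h p))) = p := by
  have h1 : ((Spec (T h p)).fromSpecStalk (t h p)).base
      (IsLocalRing.closedPoint ((Spec (T h p)).presheaf.stalk (t h p))) = t h p :=
    Scheme.fromSpecStalk_closedPoint
  have h2 : (u h p).base (t h p) = p := by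
    have := congrArg (fun φ : Spec (P.presheaf.stalk p) ⟶ P =>
      φ.base (IsLocalRing.closedPoint (P.presheaf.stalk p))) (v_u h p)
    simp only [Scheme.Hom.comp_base, TopCat.comp_app] at this
    rw [this]
    exact Scheme.fromSpecStalk_closedPoint
  simp only [Scheme.Hom.comp_base, TopCat.comp_app]
  rw [h1, h2]

/-- the inverse map `O_{P,p} ⟶ (O_{X,x} ⊗ O_{Y,y})_t` -/
noncomputable def toLoc (h : IsPullback fst snd f g) (p : P) :
    P.presheaf.stalk p ⟶ (Spec (T h p)).presheaf.stalk (t h p) :=
  P.presheaf.stalkSpecializes (specializes_of_eq (u'_closedPoint h p)) ≫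
    Scheme.stalkClosedPointTo (u' h p)

theorem toLoc_spec (h : IsPullback fst snd f g) (p : P) :
    Spec.map (toLoc h p) ≫ P.fromSpecStalk p = u' h p := by
  rw [toLoc, Spec.map_comp, Category.assoc, Scheme.SpecMap_stalkSpecializes_fromSpecStalk]
  exact Scheme.Spec_stalkClosedPointTo_fromSpecStalk (u' h p)

theorem toLoc_v (h : IsPullback fst snd f g) (p : P) :
    Spec.map (toLoc h p) ≫ v h p = (Spec (T h p)).fromSpecStalk (t h p) := by
  rw [← cancel_mono (u h p), Category.assoc, v_u, toLoc_spec]

theorem locTo_toLoc (h : IsPullback fst snd f g) (p : P) : locTo h p ≫ toLoc h p = 𝟙 _ := by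
  apply Spec.map_injective
  rw [Spec.map_comp, Spec.map_id, ← cancel_mono ((Spec (T h p)).fromSpecStalk (t h p)),
    Category.assoc, locTo_spec, toLoc_v, Category.id_comp]

theorem toLoc_locTo (h : IsPullback fst snd f g) (p : P) : toLoc h p ≫ locTo h p = 𝟙 _ := by
  apply Spec.map_injective
  rw [Spec.map_comp, Spec.map_id, ← cancel_mono (P.fromSpecStalk p),
    Category.assoc, toLoc_spec, ← Category.assoc, locTo_spec, v_u, Category.id_comp]

/-- **the local ring of a fibre product**: `O_{P,p} ≅ (O_{X,x} ⊗_{O_{S,s}} O_{Y,y})_t` -/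
noncomputable def locIso (h : IsPullback fst snd f g) (p : P) :
    (Spec (T h p)).presheaf.stalk (t h p) ≅ P.presheaf.stalk p where
  hom := locTo h p
  inv := toLoc h p
  hom_inv_id := locTo_toLoc h p
  inv_hom_id := toLoc_locTo h p

/-- compatibility with the localisation map -/
theorem toStalk_locTo (h : IsPullback fst snd f g) (p : P) :
    StructureSheaf.toStalk (T h p) (t h p) ≫ locTo h p = can h p := by
  apply Spec.map_injective
  rw [Spec.map_comp, ← Spec.fromSpecStalk_eq']
  exact locTo_spec h p

/-- `O_{P,p}` is flat over `O_{X,x} ⊗_{O_{S,s}} O_{Y,y}` -/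
theorem flat_can (h : IsPullback fst snd f g) (p : P) :
    letI := (can h p).hom.toAlgebra
    Module.Flat (T h p) (P.presheaf.stalk p) := by
  letI : Algebra (T h p) (P.presheaf.stalk p) := (can h p).hom.toAlgebra
  letI : Algebra (T h p) ((Spec (T h p)).presheaf.stalk (t h p)) :=
    (StructureSheaf.toStalk (T h p) (t h p)).hom.toAlgebra
  haveI : IsLocalization.AtPrime ((Spec (T h p)).presheaf.stalk (t h p)) (t h p).asIdeal :=
    StructureSheaf.IsLocalization.to_stalk (T h p) (t h p)
  haveI : Module.Flat (T h p) ((Spec (T h p)).presheaf.stalk (t h p)) :=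
    IsLocalization.flat _ (t h p).asIdeal.primeCompl
  let e : (Spec (T h p)).presheaf.stalk (t h p) ≃ₗ[T h p] P.presheaf.stalk p :=
    { (locIso h p).commRingCatIsoToRingEquiv.toAddEquiv with
      map_smul' := fun r x => by
        change (locTo h p).hom (algebraMap (T h p)
          ((Spec (T h p)).presheaf.stalk (t h p)) r * x) = (can h p).hom r * (locTo h p).hom x
        rw [map_mul]
        congr 1
        exact congrArg (fun φ => φ.hom r) (toStalk_locTo h p) }
  exact Module.Flat.of_linearEquiv e.symm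

end Groth.Agent.Lib.Helper5.FibStalk
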