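import Mathlib
import Groth.Agent.Lib.Helper5.FibStalk.Basic
import Groth.Agent.Lib.Helper5.FibStalk.RingBC

/-!
# Base change of tor amplitude on the local rings of a fibre product (helper5)
-/
set_option autoImplicit false
set_option linter.unusedSectionVars false
set_option linter.unusedVariables false
set_option linter.style.haveILetI false
universe u
open CategoryTheory CategoryTheory.Limits MonoidalCategory AlgebraicGeometry
attribute [local instance] HasDerivedCategory.standard

namespace Groth.Agent.Lib.Helper5.FibStalk

open Groth.Agent.Lib.Helper5.TBC Groth.Agent.Lib.Helper5.KFlat Groth.Agent.Lib.Helper5.KProj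
open Groth.Agent.Lib.Helper5.DTenLib Groth.Agent.Lib.Helper5.TensorAmp
open Groth.Agent.Helper5.TorAmp Groth.Agent.Helper1.TorL
open DTen _root_.Helper5.Gen

variable {X Y S P : Scheme.{u}} {fst : P ⟶ X} {snd : P ⟶ Y} {f : X ⟶ S} {g : Y ⟶ S}

theorem sq (h : IsPullback fst snd f g) (p : P) :
    (inl h p).hom.comp (stA f fst p).hom = (inr h p).hom.comp (stB h p).hom := by
  have := congrArg CommRingCat.Hom.hom (pushout.condition (f := stA f fst p) (g := stB h p))
  exact this

/-- the square of local rings `O_{S,s} → O_{X,x}, O_{Y,y} → O_{X,x} ⊗ O_{Y,y}` is cocartesian -/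
theorem isCocart_sq (h : IsPullback fst snd f g) (p : P) : IsCocart (sq h p) := by
  letI : Algebra (S.presheaf.stalk (f.base (fst.base p))) (X.presheaf.stalk (fst.base p)) :=
    (stA f fst p).hom.toAlgebra
  letI : Algebra (S.presheaf.stalk (f.base (fst.base p))) (Y.presheaf.stalk (snd.base p)) :=
    (stB h p).hom.toAlgebra
  letI : Algebra (X.presheaf.stalk (fst.base p)) (T h p) := (inl h p).hom.toAlgebra
  letI : Algebra (Y.presheaf.stalk (snd.base p)) (T h p) := (inr h p).hom.toAlgebra
  letI : Algebra (S.presheaf.stalk (f.base (fst.base p))) (T h p) :=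
    ((inl h p).hom.comp (stA f fst p).hom).toAlgebra
  haveI : IsScalarTower (S.presheaf.stalk (f.base (fst.base p))) (X.presheaf.stalk (fst.base p))
      (T h p) := IsScalarTower.of_algebraMap_eq (fun _ => rfl)
  haveI : IsScalarTower (S.presheaf.stalk (f.base (fst.base p))) (Y.presheaf.stalk (snd.base p))
      (T h p) := IsScalarTower.of_algebraMap_eq (fun r => congrArg (fun φ => φ r) (sq h p))
  haveI : Algebra.IsPushout (S.presheaf.stalk (f.base (fst.base p)))
      (X.presheaf.stalk (fst.base p)) (Y.presheaf.stalk (snd.base p)) (T h p) :=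
    CommRingCat.isPushout_iff_isPushout.1 (IsPushout.of_hasPushout (stA f fst p) (stB h p))
  exact isCocart_of_isPushout (S.presheaf.stalk (f.base (fst.base p)))
    (X.presheaf.stalk (fst.base p)) (Y.presheaf.stalk (snd.base p)) (T h p) (sq h p)

theorem can_inl (h : IsPullback fst snd f g) (p : P) :
    (can h p).hom.comp (inl h p).hom = (fst.stalkMap p).hom :=
  congrArg CommRingCat.Hom.hom (inl_can h p)

theorem can_inr (h : IsPullback fst snd f g) (p : P) :
    (can h p).hom.comp (inr h p).hom = (snd.stalkMap p).hom :=
  congrArg CommRingCat.Hom.hom (inr_can h p)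

/-- **base change of tor amplitude on the local rings of a fibre product** -/
theorem hasTorAmplitudeIn_fibre (h : IsPullback fst snd f g) (p : P)
    (hta : TorIndep (stA f fst p).hom (stB h p).hom)
    (K : DRing.Cx (X.presheaf.stalk (fst.base p)))
    (hK : DRing.IsKFlat (X.presheaf.stalk (fst.base p)) K) (a b : ℤ)
    (hKR : DRing.HasTorAmplitudeIn (S.presheaf.stalk (f.base (fst.base p))) a b
      (DRing.toD ((resCx (f.stalkMap (fst.base p)).hom).obj K))) :
    DRing.HasTorAmplitudeIn (Y.presheaf.stalk (snd.base p)) a b
      (DRing.toD ((resCx (snd.stalkMap p).hom).obj ((extCx (fst.stalkMap p).hom).obj K))) := by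
  have h1 := torVanF_square_local (sq h p) (can h p).hom (flat_can h p) (isCocart_sq h p) hta K hK
    a b hKR
  rw [can_inl, can_inr] at h1
  exact hasTorAmplitudeIn_of_torVanF _ a b h1

theorem flat_stalkSpecializes_of_eq {s s' : S} (e : s = s') :
    (S.presheaf.stalkSpecializes (specializes_of_eq e)).hom.Flat := by
  subst e
  have : S.presheaf.stalkSpecializes (specializes_of_eq (rfl : s = s)) = 𝟙 _ :=
    TopCat.Presheaf.stalkSpecializes_refl _ _
  rw [this]
  exact RingHom.Flat.id _

/-- tor independence when `f` is flat -/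
theorem torIndep_of_flat_f (h : IsPullback fst snd f g) (p : P) [Flat f] :
    TorIndep (stA f fst p).hom (stB h p).hom :=
  torIndep_of_flat_left (Flat.stalkMap f (fst.base p))

/-- tor independence when `g` is flat -/
theorem torIndep_of_flat_g (h : IsPullback fst snd f g) (p : P) [Flat g] :
    TorIndep (stA f fst p).hom (stB h p).hom := by
  refine torIndep_of_flat_right ?_
  have h1 : (g.stalkMap (snd.base p)).hom.Flat := Flat.stalkMap g (snd.base p)
  have h2 : (S.presheaf.stalkSpecializes (specializes_of_eq (base_eq h p))).hom.Flat :=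
    flat_stalkSpecializes_of_eq (base_eq h p)
  exact RingHom.Flat.comp h2 h1

end Groth.Agent.Lib.Helper5.FibStalk
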