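import Mathlib
import Groth.Agent.Lib.Helper5.FibStalk.StalkBC
import Groth.Agent.Lib.Helper5.FibStalk.NFRing

/-!
# Auxiliary facts for the local rings of fibre products (helper5)
-/
set_option autoImplicit false
set_option linter.unusedSectionVars false
set_option linter.unusedVariables false
set_option linter.style.haveILetI false
universe u
open CategoryTheory CategoryTheory.Limits MonoidalCategory AlgebraicGeometry
attribute [local instance] HasDerivedCategory.standard

namespace Groth.Agent.Lib.Helper5.FibStalk

open Groth.Agent.Lib.Helper5.TBC Groth.Agent.Lib.Helper5.KFlat Groth.Agent.Lib.Helper5.KProj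
open Groth.Agent.Lib.Helper5.DTenLib Groth.Agent.Lib.Helper5.TensorAmp
open Groth.Agent.Helper5.TorAmp Groth.Agent.Helper1.TorL
open DTen _root_.Helper5.Gen

/-- a pushout square of commutative rings is cocartesian in the sense of `IsCocart` -/
theorem isCocart_of_isPushout_commRingCat {R A R' A' : CommRingCat.{u}} {φ : R ⟶ A} {ρ : R ⟶ R'}
    {α : A ⟶ A'} {φ' : R' ⟶ A'} (hp : IsPushout φ ρ α φ')
    (h : α.hom.comp φ.hom = φ'.hom.comp ρ.hom) : IsCocart h := by
  letI : Algebra R A := φ.hom.toAlgebra
  letI : Algebra R R' := ρ.hom.toAlgebra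
  letI : Algebra A A' := α.hom.toAlgebra
  letI : Algebra R' A' := φ'.hom.toAlgebra
  letI : Algebra R A' := (α.hom.comp φ.hom).toAlgebra
  haveI : IsScalarTower R A A' := IsScalarTower.of_algebraMap_eq (fun _ => rfl)
  haveI : IsScalarTower R R' A' :=
    IsScalarTower.of_algebraMap_eq (fun r => congrArg (fun ψ => ψ r) h)
  haveI : Algebra.IsPushout R A R' A' := CommRingCat.isPushout_iff_isPushout.1 hp
  exact isCocart_of_isPushout R A R' A' h

/-- tor amplitude is invariant under restriction along a ring isomorphism -/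
theorem hasTorAmplitudeIn_restrict_of_bijective {B B' : Type u} [CommRing B] [CommRing B']
    (ε : B' →+* B) (hε : Function.Bijective ε) (K : DRing.Cx B) (a b : ℤ)
    (hK : DRing.HasTorAmplitudeIn B a b (DRing.toD K)) :
    DRing.HasTorAmplitudeIn B' a b (DRing.toD ((resCx ε).obj K)) := by
  obtain ⟨E, h1, h2, ⟨e⟩⟩ := hK
  refine ⟨(resCx ε).obj E, fun i hi => ?_, fun i => ?_, ⟨?_⟩⟩
  · exact Functor.map_isZero (ModuleCat.restrictScalars.{u} ε) (h1 i hi)
  · letI : Algebra B' B := ε.toAlgebra
    haveI : Module.Flat B' B := by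
      have : (algebraMap B' B).Flat := RingHom.Flat.of_bijective hε
      exact this
    haveI : Module.Flat B (E.X i) := h2 i
    letI : Module B' (E.X i) := Module.compHom (E.X i) ε
    haveI : IsScalarTower B' B (E.X i) := IsScalarTower.of_algebraMap_smul (fun _ _ => rfl)
    exact (Module.Flat.trans B' B (E.X i) :
      Module.Flat B' (E.X i))
  · exact ((resFactors ε).app E).symm ≪≫ (DRing.restrictD ε).mapIso e ≪≫ (resFactors ε).app K

variable {X Y S P : Scheme.{u}} {fst : P ⟶ X} {snd : P ⟶ Y} {f : X ⟶ S} {g : Y ⟶ S}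

/-- the transposed square of local rings is cocartesian -/
theorem isCocart_sq_symm (h : IsPullback fst snd f g) (p : P) : IsCocart (sq h p).symm :=
  isCocart_of_isPushout_commRingCat (IsPushout.of_hasPushout (stA f fst p) (stB h p)).flip
    (sq h p).symm

theorem flat_stB (h : IsPullback fst snd f g) (p : P) [Flat g] : (stB h p).hom.Flat := by
  have h1 : (g.stalkMap (snd.base p)).hom.Flat := Flat.stalkMap g (snd.base p)
  have h2 : (S.presheaf.stalkSpecializes (specializes_of_eq (base_eq h p))).hom.Flat :=
    flat_stalkSpecializes_of_eq (base_eq h p)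
  exact RingHom.Flat.comp h2 h1

/-- `O_{P,p}` is the localisation of `O_{X,x} ⊗ O_{Y,y}` at a prime -/
theorem isLocalization_can (h : IsPullback fst snd f g) (p : P) :
    letI := (can h p).hom.toAlgebra
    IsLocalization (t h p).asIdeal.primeCompl (P.presheaf.stalk p) := by
  letI : Algebra (T h p) (P.presheaf.stalk p) := (can h p).hom.toAlgebra
  letI : Algebra (T h p) ((Spec (T h p)).presheaf.stalk (t h p)) :=
    (StructureSheaf.toStalk (T h p) (t h p)).hom.toAlgebra
  haveI : IsLocalization.AtPrime ((Spec (T h p)).presheaf.stalk (t h p)) (t h p).asIdeal :=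
    StructureSheaf.IsLocalization.to_stalk (T h p) (t h p)
  let e : (Spec (T h p)).presheaf.stalk (t h p) ≃ₐ[T h p] P.presheaf.stalk p :=
    { (locIso h p).commRingCatIsoToRingEquiv with
      commutes' := fun r => congrArg (fun φ => φ.hom r) (toStalk_locTo h p) }
  exact IsLocalization.isLocalization_of_algEquiv (t h p).asIdeal.primeCompl e

/-- every `O_{P,p}`-module is extended from its restriction to `O_{X,x} ⊗ O_{Y,y}` -/
theorem isIso_counit_can (h : IsPullback fst snd f g) (p : P)
    (N' : ModuleCat.{u} (P.presheaf.stalk p)) :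
    IsIso ((ModuleCat.extendRestrictScalarsAdj.{u, u, u} (can h p).hom).counit.app N') :=
  isIso_counit_of_isLocalization (can h p).hom (t h p).asIdeal.primeCompl
    (isLocalization_can h p) N'

end Groth.Agent.Lib.Helper5.FibStalk
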