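import Mathlib
import Groth.Agent.Lib.Helper5.FibStalk.Transport

/-!
# Base change of relative tor amplitude for a morphism of flat schemes over a base (helper5)
-/
set_option autoImplicit false
set_option linter.unusedSectionVars false
set_option linter.unusedVariables false
set_option linter.style.haveILetI false
universe u
open CategoryTheory CategoryTheory.Limits MonoidalCategory AlgebraicGeometry
attribute [local instance] HasDerivedCategory.standard

namespace Groth.Agent.Lib.Helper5.FibStalk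

open Groth.Agent.Lib.Helper5.TBC Groth.Agent.Lib.Helper5.KFlat Groth.Agent.Lib.Helper5.KProj
open Groth.Agent.Lib.Helper5.DTenLib Groth.Agent.Lib.Helper5.TensorAmp
open Groth.Agent.Helper5.TorAmp Groth.Agent.Helper1.TorL
open DTen _root_.Helper5.Gen

variable {S Z₁ Y₂ X₂ V U : Scheme.{u}} {g₁ : Z₁ ⟶ S} {q₂ : Y₂ ⟶ S} {f₂ : X₂ ⟶ Y₂}
  {a₁ : V ⟶ Z₁} {a₂ : V ⟶ Y₂} {b₂ : U ⟶ X₂} {r : U ⟶ V}

theorem ptEq (hr : r ≫ a₂ = b₂ ≫ f₂) (x : U) :
    a₂.base (r.base x) = f₂.base (b₂.base x) := by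
  have := congrArg (fun φ : U ⟶ Y₂ => φ.base x) hr
  simpa using this

/-- the transport `O_{Y₂, a₂ (r x)} ⟶ O_{Y₂, f₂ (b₂ x)}` -/
noncomputable def eps (hr : r ≫ a₂ = b₂ ≫ f₂) (x : U) :
    Y₂.presheaf.stalk (a₂.base (r.base x)) ⟶ Y₂.presheaf.stalk (f₂.base (b₂.base x)) :=
  (Y₂.presheaf.stalkCongr (Inseparable.of_eq (ptEq hr x))).hom

theorem eps_bijective (hr : r ≫ a₂ = b₂ ≫ f₂) (x : U) :
    Function.Bijective (eps hr x).hom := by
  unfold eps
  exact ConcreteCategory.bijective_of_isIso _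

/-- `O_{Y₂, a₂ (r x)} ⟶ O_{X₂, b₂ x}` -/
noncomputable def phi' (hr : r ≫ a₂ = b₂ ≫ f₂) (x : U) :
    Y₂.presheaf.stalk (a₂.base (r.base x)) ⟶ X₂.presheaf.stalk (b₂.base x) :=
  eps hr x ≫ f₂.stalkMap (b₂.base x)

theorem stalkMap_r_a₂ (hr : r ≫ a₂ = b₂ ≫ f₂) (x : U) :
    a₂.stalkMap (r.base x) ≫ r.stalkMap x = phi' hr x ≫ b₂.stalkMap x := by
  have h1 := Scheme.Hom.stalkMap_congr_hom (r ≫ a₂) (b₂ ≫ f₂) hr x
  rw [Scheme.Hom.stalkMap_comp, Scheme.Hom.stalkMap_comp] at h1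
  rw [h1, phi', Category.assoc]
  rfl

section TE

variable (hV : IsPullback a₁ a₂ g₁ q₂) (hU : IsPullback (r ≫ a₁) b₂ g₁ (f₂ ≫ q₂))
  (hr : r ≫ a₂ = b₂ ≫ f₂) (x : U)

/-- the transport equation: the two structure maps `O_{S,s} ⟶ O_{X₂, b₂ x}` agree -/
theorem stB_phi' : stB hV (r.base x) ≫ phi' hr x = stB hU x := by
  have h1 := Scheme.Hom.stalkMap_congr_point q₂ (a₂.base (r.base x)) (f₂.base (b₂.base x))
    (ptEq hr x)
  have h2 : (f₂ ≫ q₂).stalkMap (b₂.base x) =
      q₂.stalkMap (f₂.base (b₂.base x)) ≫ f₂.stalkMap (b₂.base x) :=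
    Scheme.Hom.stalkMap_comp f₂ q₂ (b₂.base x)
  unfold stB phi' eps
  rw [h2, Category.assoc, ← Category.assoc (q₂.stalkMap (a₂.base (r.base x))), h1,
    Category.assoc, ← Category.assoc (S.presheaf.stalkSpecializes _),
    TopCat.Presheaf.stalkCongr_hom, TopCat.Presheaf.stalkSpecializes_comp]
  rfl

end TE

section Main

variable (hV : IsPullback a₁ a₂ g₁ q₂) (hU : IsPullback (r ≫ a₁) b₂ g₁ (f₂ ≫ q₂))
  (hr : r ≫ a₂ = b₂ ≫ f₂) (x : U)

/-- the induced map `O_{Z₁} ⊗ O_{Y₂} ⟶ O_{Z₁} ⊗ O_{X₂}` -/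
noncomputable def mT : T hV (r.base x) ⟶ T hU x :=
  pushout.desc (inl hU x) (phi' hr x ≫ inr hU x) (by
    rw [← Category.assoc, stB_phi' hV hU hr x]
    exact pushout.condition)

theorem inl_mT : inl hV (r.base x) ≫ mT hV hU hr x = inl hU x := pushout.inl_desc _ _ _

theorem inr_mT : inr hV (r.base x) ≫ mT hV hU hr x = phi' hr x ≫ inr hU x :=
  pushout.inr_desc _ _ _

theorem mT_can : mT hV hU hr x ≫ can hU x = can hV (r.base x) ≫ r.stalkMap x := by
  have e1 : inl hU x ≫ can hU x = (r ≫ a₁).stalkMap x := inl_can hU x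
  have e2 : inl hV (r.base x) ≫ can hV (r.base x) = a₁.stalkMap (r.base x) := inl_can hV _
  have e3 : (r ≫ a₁).stalkMap x = a₁.stalkMap (r.base x) ≫ r.stalkMap x :=
    Scheme.Hom.stalkMap_comp r a₁ x
  have e4 : inl hV (r.base x) ≫ mT hV hU hr x = inl hU x := inl_mT hV hU hr x
  have e5 : inr hU x ≫ can hU x = b₂.stalkMap x := inr_can hU x
  have e6 : inr hV (r.base x) ≫ can hV (r.base x) = a₂.stalkMap (r.base x) := inr_can hV _
  have e7 : inr hV (r.base x) ≫ mT hV hU hr x = phi' hr x ≫ inr hU x := inr_mT hV hU hr x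
  apply pushout.hom_ext
  · exact (Category.assoc _ _ _).symm.trans ((congrArg (· ≫ can hU x) e4).trans
      ((e1.trans e3).trans ((congrArg (· ≫ r.stalkMap x) e2).symm.trans (Category.assoc _ _ _))))
  · exact (Category.assoc _ _ _).symm.trans ((congrArg (· ≫ can hU x) e7).trans
      ((Category.assoc _ _ _).trans ((congrArg (phi' hr x ≫ ·) e5).trans
        ((stalkMap_r_a₂ hr x).symm.trans
          ((congrArg (· ≫ r.stalkMap x) e6).symm.trans (Category.assoc _ _ _))))))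

theorem isPushout_mT :
    IsPushout (phi' hr x) (inr hV (r.base x)) (inr hU x) (mT hV hU hr x) := by
  have s : IsPushout (stB hV (r.base x) ≫ phi' hr x) (stA g₁ a₁ (r.base x)) (inr hU x)
      (inl hV (r.base x) ≫ mT hV hU hr x) := by
    rw [stB_phi', inl_mT]
    exact (IsPushout.of_hasPushout (stA g₁ (r ≫ a₁) x) (stB hU x)).flip
  have t : IsPushout (stB hV (r.base x)) (stA g₁ a₁ (r.base x)) (inr hV (r.base x))
      (inl hV (r.base x)) := (IsPushout.of_hasPushout _ _).flip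
  exact IsPushout.of_left s (inr_mT hV hU hr x).symm t

include hV hU hr in
/-- **stalkwise**: base change of tor amplitude for a morphism `f₂` of flat `S`-schemes along an
arbitrary `Z₁ ⟶ S` -/
theorem torVanF_nf [Flat q₂] [Flat (f₂ ≫ q₂)]
    (K : DRing.Cx (X₂.presheaf.stalk (b₂.base x)))
    (hK : DRing.IsKFlat (X₂.presheaf.stalk (b₂.base x)) K) (a b : ℤ)
    (hKR : DRing.HasTorAmplitudeIn (Y₂.presheaf.stalk (f₂.base (b₂.base x))) a b
      (DRing.toD ((resCx (f₂.stalkMap (b₂.base x)).hom).obj K))) :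
    TorVanF a b ((resCx (r.stalkMap x).hom).obj ((extCx (b₂.stalkMap x).hom).obj K)) := by
  have h₀ : (inr hV (r.base x)).hom.comp (stB hV (r.base x)).hom =
      (inl hV (r.base x)).hom.comp (stA g₁ a₁ (r.base x)).hom := (sq hV (r.base x)).symm
  have h₁ : (inr hU x).hom.comp (phi' hr x).hom =
      (mT hV hU hr x).hom.comp (inr hV (r.base x)).hom :=
    congrArg CommRingCat.Hom.hom (inr_mT hV hU hr x).symm
  have hc₀ : IsCocart h₀ := isCocart_sq_symm hV (r.base x)
  have hc₁ : IsCocart h₁ := isCocart_of_isPushout_commRingCat (isPushout_mT hV hU hr x) h₁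
  have hβ₂ : (stB hV (r.base x)).hom.Flat := flat_stB hV (r.base x)
  have hφβ : ((phi' hr x).hom.comp (stB hV (r.base x)).hom).Flat := by
    have : (phi' hr x).hom.comp (stB hV (r.base x)).hom = (stB hU x).hom :=
      congrArg CommRingCat.Hom.hom (stB_phi' hV hU hr x)
    rw [this]
    exact flat_stB hU x
  have hKR' : DRing.HasTorAmplitudeIn (Y₂.presheaf.stalk (a₂.base (r.base x))) a b
      (DRing.toD ((resCx (phi' hr x).hom).obj K)) := by
    have h := hasTorAmplitudeIn_restrict_of_bijective (eps hr x).hom (eps_bijective hr x) _ a b hKR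
    exact hasTorAmplitudeIn_of_iso (DerivedCategory.Q.mapIso
      (Groth.Agent.Helper5.PCHom.resCxComp (eps hr x).hom (f₂.stalkMap (b₂.base x)).hom
        (phi' hr x).hom rfl K).symm) h
  have hcomm : (can hU x).hom.comp (mT hV hU hr x).hom =
      (r.stalkMap x).hom.comp (can hV (r.base x)).hom :=
    congrArg CommRingCat.Hom.hom (mT_can hV hU hr x)
  have key := torVanF_nf_local h₀ h₁ (can hU x).hom (can hV (r.base x)).hom (r.stalkMap x).hom
    hcomm (flat_can hU x) (flat_can hV (r.base x)) (isIso_counit_can hV (r.base x)) hc₀ hc₁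
    hβ₂ hφβ K hK a b hKR'
  rw [can_inr] at key
  exact key

end Main

end Groth.Agent.Lib.Helper5.FibStalk
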