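import Mathlib
import Groth.Agent.Lib.Helper5.FibStalk.StalkBC
import Groth.Agent.Lib.Helper5.DerSchTor.StalkOverB

/-!
# Base change of relative tor amplitude along a tor independent fibre product (helper5)
-/
set_option autoImplicit false
set_option linter.unusedSectionVars false
set_option linter.unusedVariables false
set_option linter.style.haveILetI false
universe u
open CategoryTheory CategoryTheory.Limits MonoidalCategory AlgebraicGeometry
attribute [local instance] HasDerivedCategory.standard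

namespace Groth.Agent.Lib.Helper5.FibStalk

open Groth.Agent.Lib.Helper5.StalkTot Groth.Agent.Lib.Helper5.StalkAdj
open Groth.Agent.Helper5.TorAmp Groth.Agent.Lib.Helper5.TensorAmp
open Groth.Agent.Lib.Helper5.KSixFlat Groth.Agent.Lib.Helper5.KFlatPull
open Groth.Agent.Lib.Helper5.KFlatStalk Groth.Agent.Lib.Helper5.LpullLib
open Groth.Agent.Lib.Helper5.KFlatSiteQ Groth.Agent.Lib.Helper5.LTenAll
open Groth.Agent.Lib.Helper5.DerSchTor Groth.Agent.Lib.Helper5.TBC
open DTen

variable {X Y S P : Scheme.{u}} {fst : P ⟶ X} {snd : P ⟶ Y} {f : X ⟶ S} {g : Y ⟶ S}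

/-- stalkwise: the pullback of a K-flat complex along the first projection -/
theorem hasTorAmplitudeAt_pullback_fibre (h : IsPullback fst snd f g) (p : P)
    (hta : TorIndep (stA f fst p).hom (stB h p).hom)
    (P' : CochainComplex X.Modules ℤ) (hP : DCoh.IsKFlat P') (a b : ℤ)
    (hPa : DerSch.HasTorAmplitudeAt f a b P' (fst.base p)) :
    DerSch.HasTorAmplitudeAt snd a b
      (((Scheme.Modules.pullback fst).mapHomologicalComplex (ComplexShape.up ℤ)).obj P') p := by
  rw [hasTorAmplitudeAt_iff] at hPa ⊢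
  have hK := isKFlat_stalkCx P' hP (fst.base p)
  have core := hasTorAmplitudeIn_fibre h p hta (stalkCx X (fst.base p) P') hK a b hPa
  exact hasTorAmplitudeIn_of_iso (DerivedCategory.Q.mapIso
    ((resCx (snd.stalkMap p).hom).mapIso (stalkCxPullbackIso fst P' p))).symm core

/-- **base change of relative tor amplitude** along a tor independent fibre product -/
theorem hasTorAmplitudeD_Lpull_fibre (h : IsPullback fst snd f g) [DCoh.HasLpull fst]
    (hta : ∀ p : P, TorIndep (stA f fst p).hom (stB h p).hom)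
    (F : CochainComplex X.Modules ℤ) (a b : ℤ) (hF : DerSch.HasTorAmplitude f a b F) :
    DerSch.HasTorAmplitudeD snd a b ((DCoh.Lpull fst).obj (DCoh.toD X F)) := by
  intro H ⟨eH⟩ p
  obtain ⟨P', q, hP1, hP2, hq, _⟩ : ∃ (P' : CochainComplex X.Modules ℤ) (q : P' ⟶ F),
      DCoh.IsKFlat P' ∧ (∀ n : ℤ, ModSite.IsFlat (O := X.sheaf) (P'.X n)) ∧ QuasiIso q ∧
        ∀ n : ℤ, Epi (q.f n) := exists_isKFlat_resolution (O := X.sheaf) F
  have hKFT : KFT P' := ⟨hP1, hP2⟩
  haveI : QuasiIso q := hq
  let eP : DCoh.toD X P' ≅ DCoh.toD X F := asIso (DerivedCategory.Q.map q)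
  let fP := ((Scheme.Modules.pullback fst).mapHomologicalComplex (ComplexShape.up ℤ)).obj P'
  let e1 : (DCoh.Lpull fst).obj (DCoh.toD X F) ≅ DCoh.toD P fP :=
    (DCoh.Lpull fst).mapIso eP.symm ≪≫ lpullObjIso fst P' hKFT
  have hPG : DerSch.HasTorAmplitudeAt f a b P' (fst.base p) :=
    hasTorAmplitudeAt_of_iso f (fst.base p) eP.symm a b (hF (fst.base p))
  have h1 := hasTorAmplitudeAt_pullback_fibre h p (hta p) P' hP1 a b hPG
  exact hasTorAmplitudeAt_of_iso snd p (e1.symm ≪≫ eH.symm) _ _ h1

end Groth.Agent.Lib.Helper5.FibStalk
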