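import Mathlib
import Groth.Agent.Lib.Helper5.FibStalk.NFSch
import Groth.Agent.Lib.Helper5.FibStalk.SchBC
import Groth.Agent.Lib.Helper5.LTen.DerInv
import Groth.Agent.Lib.Helper5.Perf.Pull
import Groth.Agent.Lib.Helper5.DTenLib.ShiftUnit

/-!
# Relative tor amplitude of products of morphisms (helper5)
-/
set_option autoImplicit false
set_option linter.unusedSectionVars false
set_option linter.unusedVariables false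
set_option linter.style.haveILetI false
universe u
open CategoryTheory CategoryTheory.Limits MonoidalCategory AlgebraicGeometry
attribute [local instance] HasDerivedCategory.standard

namespace Groth.Agent.Lib.Helper5.FibStalk

open Groth.Agent.Lib.Helper5.StalkTot Groth.Agent.Lib.Helper5.StalkAdj
open Groth.Agent.Helper5.TorAmp Groth.Agent.Lib.Helper5.TensorAmp
open Groth.Agent.Lib.Helper5.KSixFlat Groth.Agent.Lib.Helper5.KFlatPull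
open Groth.Agent.Lib.Helper5.KFlatStalk Groth.Agent.Lib.Helper5.LpullLib
open Groth.Agent.Lib.Helper5.KFlatSiteQ Groth.Agent.Lib.Helper5.LTenAll
open Groth.Agent.Lib.Helper5.DerSchTor Groth.Agent.Lib.Helper5.TBC
open Groth.Agent.Lib.Helper5.LTenDer
open DTen

section NF

variable {S Z₁ Y₂ X₂ V U : Scheme.{u}} {g₁ : Z₁ ⟶ S} {q₂ : Y₂ ⟶ S} {f₂ : X₂ ⟶ Y₂}
  {a₁ : V ⟶ Z₁} {a₂ : V ⟶ Y₂} {b₂ : U ⟶ X₂} {r : U ⟶ V}

/-- **base change of relative tor amplitude** for a morphism `f₂` of flat `S`-schemes along an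
arbitrary `Z₁ ⟶ S` -/
theorem hasTorAmplitudeAt_pullback_nf (hV : IsPullback a₁ a₂ g₁ q₂)
    (hU : IsPullback (r ≫ a₁) b₂ g₁ (f₂ ≫ q₂)) (hr : r ≫ a₂ = b₂ ≫ f₂) [Flat q₂]
    [Flat (f₂ ≫ q₂)] (x : U) (P₂ : CochainComplex X₂.Modules ℤ) (hP : DCoh.IsKFlat P₂) (a b : ℤ)
    (hPa : DerSch.HasTorAmplitudeAt f₂ a b P₂ (b₂.base x)) :
    DerSch.HasTorAmplitudeAt r a b
      (((Scheme.Modules.pullback b₂).mapHomologicalComplex (ComplexShape.up ℤ)).obj P₂) x := by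
  rw [hasTorAmplitudeAt_iff] at hPa ⊢
  have hK := isKFlat_stalkCx P₂ hP (b₂.base x)
  have core := torVanF_nf hV hU hr x (stalkCx X₂ (b₂.base x) P₂) hK a b hPa
  exact hasTorAmplitudeIn_of_iso (DerivedCategory.Q.mapIso
    ((resCx (r.stalkMap x).hom).mapIso (stalkCxPullbackIso b₂ P₂ x))).symm
    (hasTorAmplitudeIn_of_torVanF _ a b core)

end NF

section Aux

variable {X : Scheme.{u}}

/-- `P ⊗ -` for K-flat `P` respects isomorphisms in the derived category -/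
theorem nonempty_tensorObjDIso (P : CochainComplex X.Modules ℤ) (hP : DCoh.IsKFlat P)
    {K K' : CochainComplex X.Modules ℤ} (e : DCoh.toD X K ≅ DCoh.toD X K') :
    Nonempty (DCoh.toD X ((DCoh.tensorCx.obj P).obj K) ≅
      DCoh.toD X ((DCoh.tensorCx.obj P).obj K')) := by
  obtain ⟨R, s, hs, g, hα⟩ := DerivedCategory.right_fac e.hom
  haveI := hs
  have hsq : QuasiIso s := (DerivedCategory.isIso_Q_map_iff_quasiIso _ s).1 hs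
  have hg : IsIso (DerivedCategory.Q.map g) := by
    have : DerivedCategory.Q.map g = DerivedCategory.Q.map s ≫ e.hom := by
      rw [hα, IsIso.hom_inv_id_assoc]
    rw [this]
    infer_instance
  have hgq : QuasiIso g := (DerivedCategory.isIso_Q_map_iff_quasiIso _ g).1 hg
  haveI := quasiIso_tensor_obj P hP s hsq
  haveI := quasiIso_tensor_obj P hP g hgq
  exact ⟨(asIso (DerivedCategory.Q.map (((DCoh.tensorCx (X := X)).obj P).map s))).symm ≪≫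
    asIso (DerivedCategory.Q.map (((DCoh.tensorCx (X := X)).obj P).map g))⟩

/-- the structure sheaf in degree `0` is K-flat -/
theorem isKFlat_unitCx (X : Scheme.{u}) : DCoh.IsKFlat (DerSch.unitCx X) :=
  isKFlat_of_stalks _ (fun x => dring_isKFlat_of_iso (stalkCxUnitIso x).symm
    Groth.Agent.Lib.Helper5.DTenLib.isKFlat_unit)

/-- the pullback of the structure sheaf in degree `0` -/
noncomputable def pullUnitCxIso {X Y : Scheme.{u}} (f : X ⟶ Y) :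
    ((Scheme.Modules.pullback f).mapHomologicalComplex (ComplexShape.up ℤ)).obj (DerSch.unitCx Y) ≅
      DerSch.unitCx X :=
  (HomologicalComplex.singleMapHomologicalComplex (Scheme.Modules.pullback f)
      (ComplexShape.up ℤ) 0).app _ ≪≫
    (HomologicalComplex.single _ _ 0).mapIso (Groth.Agent.Lib.Helper5.PerfPull.unitIso f)

/-- termwise pullback along a composite -/
noncomputable def pullCxCompIso {X Y Z : Scheme.{u}} (f : X ⟶ Y) (g : Y ⟶ Z) (h : X ⟶ Z)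
    (w : f ≫ g = h) (P : CochainComplex Z.Modules ℤ) :
    ((Scheme.Modules.pullback f).mapHomologicalComplex (ComplexShape.up ℤ)).obj
        (((Scheme.Modules.pullback g).mapHomologicalComplex (ComplexShape.up ℤ)).obj P) ≅
      ((Scheme.Modules.pullback h).mapHomologicalComplex (ComplexShape.up ℤ)).obj P :=
  (NatIso.mapHomologicalComplex (Scheme.Modules.pullbackComp f g ≪≫
    Scheme.Modules.pullbackCongr w) (ComplexShape.up ℤ)).app P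

end Aux

section Prod

variable {S X₁ Y₁ X₂ Y₂ X Y : Scheme.{u}} (f₁ : X₁ ⟶ Y₁) (q₁ : Y₁ ⟶ S) (f₂ : X₂ ⟶ Y₂)
  (q₂ : Y₂ ⟶ S) {pX₁ : X ⟶ X₁} {pX₂ : X ⟶ X₂}
  (hX : IsPullback pX₁ pX₂ (f₁ ≫ q₁) (f₂ ≫ q₂))
  {pY₁ : Y ⟶ Y₁} {pY₂ : Y ⟶ Y₂} (hY : IsPullback pY₁ pY₂ q₁ q₂)

/-- the intermediate scheme `X₁ ×_S Y₂` -/
noncomputable abbrev Wp : Scheme.{u} := pullback (f₁ ≫ q₁) q₂

noncomputable abbrev w₁ : Wp f₁ q₁ q₂ ⟶ X₁ := pullback.fst _ _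

noncomputable abbrev w₂ : Wp f₁ q₁ q₂ ⟶ Y₂ := pullback.snd _ _

/-- `X₁ ×_S X₂ ⟶ X₁ ×_S Y₂` -/
noncomputable def uW : X ⟶ Wp f₁ q₁ q₂ :=
  pullback.lift pX₁ (pX₂ ≫ f₂) (by rw [Category.assoc]; exact hX.w)

theorem uW_w₁ : uW f₁ q₁ f₂ q₂ hX ≫ w₁ f₁ q₁ q₂ = pX₁ := pullback.lift_fst _ _ _

theorem uW_w₂ : uW f₁ q₁ f₂ q₂ hX ≫ w₂ f₁ q₁ q₂ = pX₂ ≫ f₂ := pullback.lift_snd _ _ _

/-- `X₁ ×_S Y₂ ⟶ Y₁ ×_S Y₂` -/
noncomputable def vW : Wp f₁ q₁ q₂ ⟶ Y :=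
  hY.lift (w₁ f₁ q₁ q₂ ≫ f₁) (w₂ f₁ q₁ q₂) (by rw [Category.assoc]; exact pullback.condition)

theorem vW_pY₁ : vW f₁ q₁ q₂ hY ≫ pY₁ = w₁ f₁ q₁ q₂ ≫ f₁ := hY.lift_fst _ _ _

theorem vW_pY₂ : vW f₁ q₁ q₂ hY ≫ pY₂ = w₂ f₁ q₁ q₂ := hY.lift_snd _ _ _

theorem eq_uW_vW (f : X ⟶ Y) (hf₁ : f ≫ pY₁ = pX₁ ≫ f₁) (hf₂ : f ≫ pY₂ = pX₂ ≫ f₂) :
    f = uW f₁ q₁ f₂ q₂ hX ≫ vW f₁ q₁ q₂ hY := by
  apply hY.hom_ext
  · rw [hf₁, Category.assoc, vW_pY₁, ← Category.assoc, uW_w₁]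
  · rw [hf₂, Category.assoc, vW_pY₂, uW_w₂]

theorem isPullback_sqA : IsPullback (w₁ f₁ q₁ q₂) (vW f₁ q₁ q₂ hY) f₁ pY₁ := by
  have s : IsPullback (vW f₁ q₁ q₂ hY ≫ pY₂) (w₁ f₁ q₁ q₂) q₂ (f₁ ≫ q₁) := by
    rw [vW_pY₂]
    exact (IsPullback.of_hasPullback _ _).flip
  exact (IsPullback.of_right s (vW_pY₁ f₁ q₁ q₂ hY) hY.flip).flip

/-- **stalkwise tor amplitude of `pX₁^*P₁ ⊗ pX₂^*P₂` relative to `f₁ ×_S f₂`** -/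
theorem hasTorAmplitudeAt_prod [Flat q₂] [Flat (f₂ ≫ q₂)] (x : X)
    (P₁ : CochainComplex X₁.Modules ℤ) (hP₁ : DCoh.IsKFlat P₁) (a₁ b₁ : ℤ)
    (h₁ : DerSch.HasTorAmplitude f₁ a₁ b₁ P₁)
    (P₂ : CochainComplex X₂.Modules ℤ) (hP₂ : DCoh.IsKFlat P₂) (a₂ b₂ : ℤ)
    (h₂ : DerSch.HasTorAmplitude f₂ a₂ b₂ P₂) :
    DerSch.HasTorAmplitudeAt (uW f₁ q₁ f₂ q₂ hX ≫ vW f₁ q₁ q₂ hY) (a₁ + a₂) (b₁ + b₂)
      ((DCoh.tensorCx.obj (((Scheme.Modules.pullback pX₁).mapHomologicalComplex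
        (ComplexShape.up ℤ)).obj P₁)).obj (((Scheme.Modules.pullback pX₂).mapHomologicalComplex
        (ComplexShape.up ℤ)).obj P₂)) x := by
  haveI : Flat pY₁ := MorphismProperty.of_isPullback (P := @Flat) hY.flip inferInstance
  have sqA := isPullback_sqA f₁ q₁ q₂ hY
  have hA := hasTorAmplitudeAt_pullback_fibre sqA ((uW f₁ q₁ f₂ q₂ hX).base x)
    (torIndep_of_flat_g sqA _) P₁ hP₁ a₁ b₁ (h₁ _)
  have hU : IsPullback (uW f₁ q₁ f₂ q₂ hX ≫ w₁ f₁ q₁ q₂) pX₂ (f₁ ≫ q₁) (f₂ ≫ q₂) := by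
    rw [uW_w₁]
    exact hX
  have hB := hasTorAmplitudeAt_pullback_nf (IsPullback.of_hasPullback (f₁ ≫ q₁) q₂) hU
    (uW_w₂ f₁ q₁ f₂ q₂ hX) x P₂ hP₂ a₂ b₂ (h₂ _)
  have hT := hasTorAmplitudeAt_pull_tensor (uW f₁ q₁ f₂ q₂ hX) (vW f₁ q₁ q₂ hY) x _ a₂ b₂ hB
    _ (isKFlat_pullback (w₁ f₁ q₁ q₂) P₁ hP₁) a₁ b₁ hA
  rw [add_comm a₂, add_comm b₂] at hT
  let e := ((DCoh.tensorCx (X := X)).mapIso (pullCxCompIso (uW f₁ q₁ f₂ q₂ hX) (w₁ f₁ q₁ q₂) pX₁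
    (uW_w₁ f₁ q₁ f₂ q₂ hX) P₁)).app
    (((Scheme.Modules.pullback pX₂).mapHomologicalComplex (ComplexShape.up ℤ)).obj P₂)
  exact hasTorAmplitudeAt_of_iso _ x (DerivedCategory.Q.mapIso e) _ _ hT

include hX hY in
/-- **`L pX₁^* E₁ ⊗^L L pX₂^* E₂` has tor amplitude in `[a₁ + a₂, b₁ + b₂]` relative to
`f₁ ×_S f₂`** -/
theorem hasTorAmplitudeD_prod [Flat q₂] [Flat (f₂ ≫ q₂)] (f : X ⟶ Y)
    (hf₁ : f ≫ pY₁ = pX₁ ≫ f₁) (hf₂ : f ≫ pY₂ = pX₂ ≫ f₂)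
    (E₁ : CochainComplex X₁.Modules ℤ) (a₁ b₁ : ℤ) (h₁ : DerSch.HasTorAmplitude f₁ a₁ b₁ E₁)
    (E₂ : CochainComplex X₂.Modules ℤ) (a₂ b₂ : ℤ) (h₂ : DerSch.HasTorAmplitude f₂ a₂ b₂ E₂)
    [DCoh.HasLpull pX₁] [DCoh.HasLpull pX₂] (K₂ : CochainComplex X.Modules ℤ)
    [DCoh.HasLTensorCx K₂] (eK : DCoh.toD X K₂ ≅ (DCoh.Lpull pX₂).obj (DCoh.toD X₂ E₂)) :
    DerSch.HasTorAmplitudeD f (a₁ + a₂) (b₁ + b₂)
      ((DCoh.LTensorCx K₂).obj ((DCoh.Lpull pX₁).obj (DCoh.toD X₁ E₁))) := by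
  have hf := eq_uW_vW f₁ q₁ f₂ q₂ hX hY f hf₁ hf₂
  subst hf
  intro H ⟨eH⟩ x
  obtain ⟨P₁, p₁, hP₁a, hP₁b, hp₁, _⟩ : ∃ (P' : CochainComplex X₁.Modules ℤ) (q : P' ⟶ E₁),
      DCoh.IsKFlat P' ∧ (∀ n : ℤ, ModSite.IsFlat (O := X₁.sheaf) (P'.X n)) ∧ QuasiIso q ∧
        ∀ n : ℤ, Epi (q.f n) := exists_isKFlat_resolution (O := X₁.sheaf) E₁
  obtain ⟨P₂, p₂, hP₂a, hP₂b, hp₂, _⟩ : ∃ (P' : CochainComplex X₂.Modules ℤ) (q : P' ⟶ E₂),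
      DCoh.IsKFlat P' ∧ (∀ n : ℤ, ModSite.IsFlat (O := X₂.sheaf) (P'.X n)) ∧ QuasiIso q ∧
        ∀ n : ℤ, Epi (q.f n) := exists_isKFlat_resolution (O := X₂.sheaf) E₂
  haveI : QuasiIso p₁ := hp₁
  haveI : QuasiIso p₂ := hp₂
  let eP₁ : DCoh.toD X₁ P₁ ≅ DCoh.toD X₁ E₁ := asIso (DerivedCategory.Q.map p₁)
  let eP₂ : DCoh.toD X₂ P₂ ≅ DCoh.toD X₂ E₂ := asIso (DerivedCategory.Q.map p₂)
  have h₁' : DerSch.HasTorAmplitude f₁ a₁ b₁ P₁ :=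
    fun y => hasTorAmplitudeAt_of_iso f₁ y eP₁.symm _ _ (h₁ y)
  have h₂' : DerSch.HasTorAmplitude f₂ a₂ b₂ P₂ :=
    fun y => hasTorAmplitudeAt_of_iso f₂ y eP₂.symm _ _ (h₂ y)
  have core := hasTorAmplitudeAt_prod f₁ q₁ f₂ q₂ hX hY x P₁ hP₁a a₁ b₁ h₁' P₂ hP₂a a₂ b₂ h₂'
  let fP₁ := ((Scheme.Modules.pullback pX₁).mapHomologicalComplex (ComplexShape.up ℤ)).obj P₁
  let fP₂ := ((Scheme.Modules.pullback pX₂).mapHomologicalComplex (ComplexShape.up ℤ)).obj P₂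
  let e1 : (DCoh.Lpull pX₁).obj (DCoh.toD X₁ E₁) ≅ DCoh.toD X fP₁ :=
    (DCoh.Lpull pX₁).mapIso eP₁.symm ≪≫ lpullObjIso pX₁ P₁ ⟨hP₁a, hP₁b⟩
  let e2 : DCoh.toD X K₂ ≅ DCoh.toD X fP₂ :=
    eK ≪≫ (DCoh.Lpull pX₂).mapIso eP₂.symm ≪≫ lpullObjIso pX₂ P₂ ⟨hP₂a, hP₂b⟩
  have hfP₁ : DCoh.IsKFlat fP₁ := isKFlat_pullback pX₁ P₁ hP₁a
  obtain ⟨e3⟩ := nonempty_tensorObjDIso fP₁ hfP₁ e2
  let e4 : (DCoh.LTensorCx K₂).obj ((DCoh.Lpull pX₁).obj (DCoh.toD X₁ E₁)) ≅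
      DCoh.toD X ((DCoh.tensorCx.obj fP₁).obj fP₂) :=
    (DCoh.LTensorCx K₂).mapIso e1 ≪≫ ltensorObjIsoOfKFlat K₂ fP₁ hfP₁ ≪≫ e3
  exact hasTorAmplitudeAt_of_iso _ x (e4.symm ≪≫ eH.symm) _ _ core

end Prod

end Groth.Agent.Lib.Helper5.FibStalk
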