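import Mathlib
import Groth.Agent.Lib.Helper5.TensorAmp.TensorLE

/-!
# `F' ⊗ X` for `X` of tor amplitude `[a, b]` and `F'` K-flat with cohomology in `[c, d]`
has cohomology in `[a + c, b + d]` (helper5)
-/
set_option autoImplicit false
set_option linter.unusedSectionVars false
set_option linter.unusedVariables false
set_option linter.style.haveILetI false
universe u
open CategoryTheory CategoryTheory.Limits MonoidalCategory HomologicalComplex
attribute [local instance] HasDerivedCategory.standard

namespace Groth.Agent.Lib.Helper5.TensorBdd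

open Groth.Agent.Lib.Helper5.KProj Groth.Agent.Lib.Helper5.KFlat Groth.Agent.Lib.Helper5.DTenLib
open Groth.Agent.Helper5.TorAmp Groth.Agent.Lib.Helper5.TensorAmp
open Groth.Agent.Lib.Helper5.TensorLE
open DTen _root_.Helper5.Gen

variable {A : Type u} [CommRing A]

/-- termwise vanishing of a tensor product of bounded below complexes -/
theorem isZero_tensor_X_below (P G : DRing.Cx A) (a b : ℤ) (hP : ∀ p : ℤ, p < a → IsZero (P.X p))
    (hG : ∀ q : ℤ, q < b → IsZero (G.X q)) (n : ℤ) (hn : n < a + b) : IsZero ((P ⊗ G).X n) := by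
  rw [IsZero.iff_id_eq_zero]
  apply HomologicalComplex.mapBifunctor.hom_ext
  intro p q h
  have hpq : p + q = n := h
  by_cases hp : p < a
  · have hz : IsZero (P.X p ⊗ G.X q) :=
      Functor.map_isZero ((curriedTensor (ModuleCat.{u} A)).flip.obj (G.X q)) (hP p hp)
    exact hz.eq_of_src _ _
  · have hq : q < b := by omega
    have hz : IsZero (P.X p ⊗ G.X q) :=
      Functor.map_isZero ((curriedTensor (ModuleCat.{u} A)).obj (P.X p)) (hG q hq)
    exact hz.eq_of_src _ _

/-- **cohomological bounds for `F' ⊗ X`, `X` of tor amplitude `[a, b]`, `F'` K-flat with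
cohomology in `[c, d]`** -/
theorem isZero_homology_tensor_of_hasTorAmplitudeIn_of_bdd (X : DRing.Cx A) (a b : ℤ)
    (h : DRing.HasTorAmplitudeIn A a b (DRing.toD X)) (F' : DRing.Cx A)
    (hF' : DRing.IsKFlat A F') (c d : ℤ) (hc : ∀ i : ℤ, i < c → IsZero (F'.homology i))
    (hd : ∀ i : ℤ, d < i → IsZero (F'.homology i))
    (i : ℤ) (hi : i < c + a ∨ d + b < i) : IsZero ((F' ⊗ X).homology i) := by
  obtain ⟨E, hE1, hE2, ⟨e⟩⟩ := h
  have hEk : DRing.IsKFlat A E :=
    isKFlat_of_bounded_above E b (fun j hj => hE1 j (Or.inr hj)) hE2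
  obtain ⟨g, hg⟩ := exists_Q_map_eq (res X) E (DerivedCategory.Q.map (resMap X) ≫ e.inv)
  have hgq : QuasiIso g := by
    rw [← DerivedCategory.isIso_Q_map_iff_quasiIso, hg]
    infer_instance
  have q1 : QuasiIso (F' ◁ resMap X) := quasiIso_whiskerLeft hF' (resMap X) inferInstance
  have q2 : QuasiIso (F' ◁ g) := quasiIso_whiskerLeft hF' g hgq
  rw [← isZero_homology_iff_of_quasiIso' _ q1 i, isZero_homology_iff_of_quasiIso' _ q2 i]
  rcases hi with hi | hi
  · -- lower bound: truncate `F'`
    haveI : F'.IsGE c := by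
      rw [CochainComplex.isGE_iff]
      intro j hj
      rw [exactAt_iff_isZero_homology]
      exact hc j hj
    have q3 : QuasiIso (F'.πTruncGE c ▷ E) := quasiIso_whiskerRight hEk (F'.πTruncGE c) inferInstance
    rw [isZero_homology_iff_of_quasiIso' _ q3 i, ← exactAt_iff_isZero_homology]
    apply HomologicalComplex.ExactAt.of_isZero
    exact isZero_tensor_X_below (F'.truncGE c) E c a
      (fun p hp => CochainComplex.isZero_of_isStrictlyGE (F'.truncGE c) c p hp)
      (fun q hq => hE1 q (Or.inl hq)) i hi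
  · refine isZero_homology_tensor_of_isLE F' E hF' d b hd (fun j hj => ?_) i hi
    rw [← exactAt_iff_isZero_homology]
    exact HomologicalComplex.ExactAt.of_isZero (hE1 j (Or.inr hj))

end Groth.Agent.Lib.Helper5.TensorBdd
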