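import Mathlib
import Groth.Agent.Lib.Helper5.FibStalk.ProdTor
import Groth.Agent.Lib.Helper5.FibStalk.TensorBdd
import Groth.Agent.Lib.Helper5.Stalk.Exact

/-!
# Cohomological amplitude of the external tensor product, flat first factor (helper5)
-/
set_option autoImplicit false
set_option linter.unusedSectionVars false
set_option linter.unusedVariables false
set_option linter.style.haveILetI false
universe u
open CategoryTheory CategoryTheory.Limits MonoidalCategory AlgebraicGeometry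
attribute [local instance] HasDerivedCategory.standard

namespace Groth.Agent.Lib.Helper5.FibStalk

open Groth.Agent.Lib.Helper5.StalkTot Groth.Agent.Lib.Helper5.StalkAdj
open Groth.Agent.Helper5.TorAmp Groth.Agent.Lib.Helper5.TensorAmp
open Groth.Agent.Lib.Helper5.KSixFlat Groth.Agent.Lib.Helper5.KFlatPull
open Groth.Agent.Lib.Helper5.KFlatStalk Groth.Agent.Lib.Helper5.LpullLib
open Groth.Agent.Lib.Helper5.KFlatSiteQ Groth.Agent.Lib.Helper5.LTenAll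
open Groth.Agent.Lib.Helper5.DerSchTor Groth.Agent.Lib.Helper5.TBC
open Groth.Agent.Lib.Helper5.LTenDer Groth.Agent.Lib.Helper5.TensorBdd
open DTen _root_.Helper5.Gen

section Bdd

variable {X Y : Scheme.{u}}

/-- tor amplitude is preserved by restriction along a flat ring map -/
theorem hasTorAmplitudeIn_restrict_of_flat {B B' : Type u} [CommRing B] [CommRing B']
    (ε : B' →+* B) (hε : ε.Flat) (K : DRing.Cx B) (a b : ℤ)
    (hK : DRing.HasTorAmplitudeIn B a b (DRing.toD K)) :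
    DRing.HasTorAmplitudeIn B' a b (DRing.toD ((resCx ε).obj K)) := by
  obtain ⟨E, h1, h2, ⟨e⟩⟩ := hK
  refine ⟨(resCx ε).obj E, fun i hi => ?_, fun i => ?_, ⟨?_⟩⟩
  · exact Functor.map_isZero (ModuleCat.restrictScalars.{u} ε) (h1 i hi)
  · letI : Algebra B' B := ε.toAlgebra
    haveI : Module.Flat B' B := hε
    haveI : Module.Flat B (E.X i) := h2 i
    letI : Module B' (E.X i) := Module.compHom (E.X i) ε
    haveI : IsScalarTower B' B (E.X i) := IsScalarTower.of_algebraMap_smul (fun _ _ => rfl)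
    exact (Module.Flat.trans B' B (E.X i) :
      Module.Flat B' (E.X i))
  · exact ((resFactors ε).app E).symm ≪≫ (DRing.restrictD ε).mapIso e ≪≫ (resFactors ε).app K

/-- tor amplitude relative to `f` gives tor amplitude relative to `f ≫ g` for flat `g` -/
theorem hasTorAmplitudeAt_comp_flat' {Z : Scheme.{u}} (f : X ⟶ Y) (g : Y ⟶ Z) [Flat g] (x : X)
    (F : CochainComplex X.Modules ℤ) (a b : ℤ) (hF : DerSch.HasTorAmplitudeAt f a b F x) :
    DerSch.HasTorAmplitudeAt (f ≫ g) a b F x := by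
  rw [hasTorAmplitudeAt_iff] at hF ⊢
  have h1 := hasTorAmplitudeIn_restrict_of_flat (g.stalkMap (f.base x)).hom
    (Flat.stalkMap g (f.base x)) _ a b hF
  exact hasTorAmplitudeIn_of_iso (DerivedCategory.Q.mapIso (resCompIso f g x (stalkCx X x F))).symm h1

/-- the stalks of a complex exact in degree `i` are exact in degree `i` -/
theorem isZero_homology_stalkCx_at (Z : CochainComplex X.Modules ℤ) (i : ℤ) (hac : Z.ExactAt i)
    (x : X) : IsZero ((stalkCx X x Z).homology i) := by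
  have h0 : IsZero (Z.homology i) := (HomologicalComplex.exactAt_iff_isZero_homology _ _).1 hac
  exact IsZero.of_iso ((stalkSh X x).map_isZero h0) ((Z.sc i).mapHomologyIso (stalkSh X x))

/-- **`F ⊗ f^*P` is exact outside `[a + c, b + d]` at `x`** when `F` has tor amplitude `[a, b]`
relative to `f` at `x` and the K-flat complex `P` has cohomology in `[c, d]` -/
theorem exactAt_stalk_tensor_pull (f : X ⟶ Y) (F : CochainComplex X.Modules ℤ) (a b : ℤ) (x : X)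
    (hF : DerSch.HasTorAmplitudeAt f a b F x) (P : CochainComplex Y.Modules ℤ)
    (hP : DCoh.IsKFlat P) (c d : ℤ) (hc : ∀ i : ℤ, i < c → P.ExactAt i)
    (hd : ∀ i : ℤ, d < i → P.ExactAt i) (i : ℤ) (hi : i < a + c ∨ b + d < i) :
    (stalkCx X x ((DCoh.tensorCx.obj F).obj
      (((Scheme.Modules.pullback f).mapHomologicalComplex (ComplexShape.up ℤ)).obj P))).ExactAt i := by
  have e3 : stalkCx X x ((DCoh.tensorCx.obj F).obj
      (((Scheme.Modules.pullback f).mapHomologicalComplex (ComplexShape.up ℤ)).obj P)) ≅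
      (extCx (f.stalkMap x).hom).obj (stalkCx Y (f.base x) P) ⊗ stalkCx X x F :=
    stalkTotIso X x F _ ≪≫ whiskerLeftIso (stalkCx X x F) (stalkCxPullbackIso f P x) ≪≫
      braidCx _ _
  refine HomologicalComplex.ExactAt.of_iso ?_ e3.symm
  apply exactAt_of_resCx (f.stalkMap x).hom
  refine HomologicalComplex.ExactAt.of_iso ?_
    (asIso (pf (f.stalkMap x).hom (stalkCx Y (f.base x) P) (stalkCx X x F)))
  rw [HomologicalComplex.exactAt_iff_isZero_homology]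
  have hK : DRing.IsKFlat (Y.presheaf.stalk (f.base x)) (stalkCx Y (f.base x) P) :=
    isKFlat_stalkCx P hP (f.base x)
  exact isZero_homology_tensor_of_hasTorAmplitudeIn_of_bdd _ a b
    ((hasTorAmplitudeAt_iff f x F a b).1 hF) _ hK c d
    (fun j hj => isZero_homology_stalkCx_at P j (hc j hj) (f.base x))
    (fun j hj => isZero_homology_stalkCx_at P j (hd j hj) (f.base x)) i (by omega)

end Bdd

section Prod2

variable {S X₁ Y₁ X₂ Y₂ X : Scheme.{u}} (f₁ : X₁ ⟶ Y₁) (q₁ : Y₁ ⟶ S) (f₂ : X₂ ⟶ Y₂)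
  (q₂ : Y₂ ⟶ S) {pX₁ : X ⟶ X₁} {pX₂ : X ⟶ X₂}
  (hX : IsPullback pX₁ pX₂ (f₁ ≫ q₁) (f₂ ≫ q₂))

include hX in
/-- `pX₁^*P₁` has tor amplitude `[a₁, b₁]` relative to the second projection `X₁ ×_S X₂ ⟶ X₂`
when `X₁` and `Y₁` are flat over `S` -/
theorem hasTorAmplitudeAt_pullback_rel_snd [Flat q₁] [Flat (f₁ ≫ q₁)] (x : X)
    (P₁ : CochainComplex X₁.Modules ℤ) (hP₁ : DCoh.IsKFlat P₁) (a₁ b₁ : ℤ)
    (h₁ : DerSch.HasTorAmplitude f₁ a₁ b₁ P₁) :
    DerSch.HasTorAmplitudeAt pX₂ a₁ b₁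
      (((Scheme.Modules.pullback pX₁).mapHomologicalComplex (ComplexShape.up ℤ)).obj P₁) x := by
  let r : X ⟶ pullback (f₂ ≫ q₂) q₁ :=
    pullback.lift pX₂ (pX₁ ≫ f₁) (by rw [Category.assoc]; exact hX.w.symm)
  have hr1 : r ≫ pullback.fst (f₂ ≫ q₂) q₁ = pX₂ := pullback.lift_fst _ _ _
  have hr2 : r ≫ pullback.snd (f₂ ≫ q₂) q₁ = pX₁ ≫ f₁ := pullback.lift_snd _ _ _
  have hU : IsPullback (r ≫ pullback.fst (f₂ ≫ q₂) q₁) pX₁ (f₂ ≫ q₂) (f₁ ≫ q₁) := by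
    rw [hr1]
    exact hX.flip
  have hB := hasTorAmplitudeAt_pullback_nf (IsPullback.of_hasPullback (f₂ ≫ q₂) q₁) hU hr2 x
    P₁ hP₁ a₁ b₁ (h₁ _)
  haveI : Flat (pullback.fst (f₂ ≫ q₂) q₁) := inferInstance
  have h2 := hasTorAmplitudeAt_comp_flat' r
    (pullback.fst (f₂ ≫ q₂) q₁) x _ a₁ b₁ hB
  rw [hr1] at h2
  exact h2

include hX in
/-- **`L pX₁^* E₁ ⊗^L L pX₂^* E₂` lies in `D^{[a₁ + a₂, b₁ + b₂]}`** when `E₁` has tor amplitude
`[a₁, b₁]` relative to `f₁`, `E₂` lies in `D^{[a₂, b₂]}` and `X₁`, `Y₁` are flat over `S` -/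
theorem isGE_isLE_prod [Flat q₁] [Flat (f₁ ≫ q₁)]
    (E₁ : CochainComplex X₁.Modules ℤ) (a₁ b₁ : ℤ) (h₁ : DerSch.HasTorAmplitude f₁ a₁ b₁ E₁)
    (E₂ : CochainComplex X₂.Modules ℤ) (a₂ b₂ : ℤ) [(DCoh.toD X₂ E₂).IsGE a₂]
    [(DCoh.toD X₂ E₂).IsLE b₂]
    [DCoh.HasLpull pX₁] [DCoh.HasLpull pX₂] (K₂ : CochainComplex X.Modules ℤ)
    [DCoh.HasLTensorCx K₂] (eK : DCoh.toD X K₂ ≅ (DCoh.Lpull pX₂).obj (DCoh.toD X₂ E₂)) :
    ((DCoh.LTensorCx K₂).obj ((DCoh.Lpull pX₁).obj (DCoh.toD X₁ E₁))).IsGE (a₁ + a₂) ∧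
      ((DCoh.LTensorCx K₂).obj ((DCoh.Lpull pX₁).obj (DCoh.toD X₁ E₁))).IsLE (b₁ + b₂) := by
  obtain ⟨P₁, p₁, hP₁a, hP₁b, hp₁, _⟩ : ∃ (P' : CochainComplex X₁.Modules ℤ) (q : P' ⟶ E₁),
      DCoh.IsKFlat P' ∧ (∀ n : ℤ, ModSite.IsFlat (O := X₁.sheaf) (P'.X n)) ∧ QuasiIso q ∧
        ∀ n : ℤ, Epi (q.f n) := exists_isKFlat_resolution (O := X₁.sheaf) E₁
  obtain ⟨P₂, p₂, hP₂a, hP₂b, hp₂, _⟩ : ∃ (P' : CochainComplex X₂.Modules ℤ) (q : P' ⟶ E₂),
      DCoh.IsKFlat P' ∧ (∀ n : ℤ, ModSite.IsFlat (O := X₂.sheaf) (P'.X n)) ∧ QuasiIso q ∧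
        ∀ n : ℤ, Epi (q.f n) := exists_isKFlat_resolution (O := X₂.sheaf) E₂
  haveI : QuasiIso p₁ := hp₁
  haveI : QuasiIso p₂ := hp₂
  let eP₁ : DCoh.toD X₁ P₁ ≅ DCoh.toD X₁ E₁ := asIso (DerivedCategory.Q.map p₁)
  let eP₂ : DCoh.toD X₂ P₂ ≅ DCoh.toD X₂ E₂ := asIso (DerivedCategory.Q.map p₂)
  have h₁' : DerSch.HasTorAmplitude f₁ a₁ b₁ P₁ :=
    fun y => hasTorAmplitudeAt_of_iso f₁ y eP₁.symm _ _ (h₁ y)
  -- exactness of `P₂` outside `[a₂, b₂]`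
  have hE₂ : ∀ i : ℤ, (i < a₂ ∨ b₂ < i) → P₂.ExactAt i := by
    intro i hi
    rw [HomologicalComplex.exactAt_iff_isZero_homology]
    have hz : IsZero ((DerivedCategory.homologyFunctor X₂.Modules i).obj (DCoh.toD X₂ E₂)) := by
      rcases hi with hi | hi
      · exact (DerivedCategory.isGE_iff _ a₂).1 inferInstance i hi
      · exact (DerivedCategory.isLE_iff _ b₂).1 inferInstance i hi
    exact IsZero.of_iso hz (((DerivedCategory.homologyFunctorFactors X₂.Modules i).app P₂).symm ≪≫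
      (DerivedCategory.homologyFunctor X₂.Modules i).mapIso eP₂)
  let fP₁ := ((Scheme.Modules.pullback pX₁).mapHomologicalComplex (ComplexShape.up ℤ)).obj P₁
  let fP₂ := ((Scheme.Modules.pullback pX₂).mapHomologicalComplex (ComplexShape.up ℤ)).obj P₂
  let e1 : (DCoh.Lpull pX₁).obj (DCoh.toD X₁ E₁) ≅ DCoh.toD X fP₁ :=
    (DCoh.Lpull pX₁).mapIso eP₁.symm ≪≫ lpullObjIso pX₁ P₁ ⟨hP₁a, hP₁b⟩
  let e2 : DCoh.toD X K₂ ≅ DCoh.toD X fP₂ :=
    eK ≪≫ (DCoh.Lpull pX₂).mapIso eP₂.symm ≪≫ lpullObjIso pX₂ P₂ ⟨hP₂a, hP₂b⟩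
  have hfP₁ : DCoh.IsKFlat fP₁ := isKFlat_pullback pX₁ P₁ hP₁a
  obtain ⟨e3⟩ := nonempty_tensorObjDIso fP₁ hfP₁ e2
  let T := (DCoh.tensorCx.obj fP₁).obj fP₂
  let e4 : (DCoh.LTensorCx K₂).obj ((DCoh.Lpull pX₁).obj (DCoh.toD X₁ E₁)) ≅ DCoh.toD X T :=
    (DCoh.LTensorCx K₂).mapIso e1 ≪≫ ltensorObjIsoOfKFlat K₂ fP₁ hfP₁ ≪≫ e3
  have key : ∀ i : ℤ, (i < a₁ + a₂ ∨ b₁ + b₂ < i) →
      IsZero ((DerivedCategory.homologyFunctor X.Modules i).obj
        ((DCoh.LTensorCx K₂).obj ((DCoh.Lpull pX₁).obj (DCoh.toD X₁ E₁)))) := by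
    intro i hi
    refine IsZero.of_iso ?_ ((DerivedCategory.homologyFunctor X.Modules i).mapIso e4)
    refine IsZero.of_iso ?_ ((DerivedCategory.homologyFunctorFactors X.Modules i).app T)
    refine (HomologicalComplex.exactAt_iff_isZero_homology T i).1
      (exactAt_of_stalks T i (fun x => ?_))
    exact exactAt_stalk_tensor_pull pX₂ fP₁ a₁ b₁ x
      (hasTorAmplitudeAt_pullback_rel_snd f₁ q₁ f₂ q₂ hX x P₁ hP₁a a₁ b₁ h₁') P₂ hP₂a a₂ b₂
      (fun j hj => hE₂ j (Or.inl hj)) (fun j hj => hE₂ j (Or.inr hj)) i hi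
  exact ⟨(DerivedCategory.isGE_iff _ _).2 (fun i hi => key i (Or.inl hi)),
    (DerivedCategory.isLE_iff _ _).2 (fun i hi => key i (Or.inr hi))⟩

end Prod2

end Groth.Agent.Lib.Helper5.FibStalk
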