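import Mathlib
import Groth.Agent.Lib.Helper5.FibStalk.PullQis
import Groth.Agent.Lib.Helper5.RelPC.FlatSingle

/-!
# Base change of relative flat amplitude along a fibre product, `f` flat (helper5)
-/
set_option autoImplicit false
set_option linter.unusedSectionVars false
set_option linter.unusedVariables false
set_option linter.style.haveILetI false
universe u
open CategoryTheory CategoryTheory.Limits MonoidalCategory AlgebraicGeometry
attribute [local instance] HasDerivedCategory.standard

namespace Groth.Agent.Lib.Helper5.FibStalk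

open Groth.Agent.Lib.Helper5.LpullLib Groth.Agent.Lib.Helper5.DerSchTor
open Groth.Agent.Lib.Helper5.FlatSingle Groth.Agent.Lib.Helper5.FlatTerms

variable {X Y S P : Scheme.{u}} {fst : P ⟶ X} {snd : P ⟶ Y} {f : X ⟶ S} {g : Y ⟶ S}

theorem isFlatOver_single_X (f : X ⟶ S) (M : X.Modules) (hM : FlatMod.IsFlatOver f M) (i : ℤ) :
    FlatMod.IsFlatOver f (((HomologicalComplex.single X.Modules (ComplexShape.up ℤ) 0).obj M).X i) := by
  by_cases hi : i = 0
  · subst hi
    exact isFlatOver_of_iso f (HomologicalComplex.singleObjXSelf (ComplexShape.up ℤ) 0 M).symm hM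
  · exact isFlatOver_of_isZero f (HomologicalComplex.isZero_single_obj_X (ComplexShape.up ℤ) 0 M i hi)

/-- **flatness over the base is stable under base change** (`f` flat) -/
theorem isFlatOver_pullback_fibre (h : IsPullback fst snd f g) [Flat f] (M : X.Modules)
    (hM : FlatMod.IsFlatOver f M) :
    FlatMod.IsFlatOver snd ((Scheme.Modules.pullback fst).obj M) := by
  haveI : DCoh.HasLpull fst := hasLpull fst
  let SM := (HomologicalComplex.single X.Modules (ComplexShape.up ℤ) 0).obj M
  have hv : DCoh.VanishesOutside SM 0 0 := fun i hi =>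
    HomologicalComplex.isZero_single_obj_X (ComplexShape.up ℤ) 0 M i (by omega)
  have hk : KFS f SM := kfs_of_flat_terms f SM 0 (fun i hi => hv i (Or.inr hi))
    (isFlatOver_single_X f M hM)
  have hT : DerSch.HasTorAmplitude f 0 0 SM :=
    hasTorAmplitude_of_flat_terms f SM 0 0 hv (isFlatOver_single_X f M hM)
  obtain ⟨e1⟩ := nonempty_lpullIso_of_kfs h SM hk
  have h2 := hasTorAmplitudeD_Lpull_fibre h (fun p => torIndep_of_flat_f h p) SM 0 0 hT _ ⟨e1.symm⟩
  have e3 := (HomologicalComplex.singleMapHomologicalComplex (Scheme.Modules.pullback fst)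
    (ComplexShape.up ℤ) 0).app M
  refine isFlatOver_of_hasTorAmplitude_single snd _ (fun p => ?_)
  exact hasTorAmplitudeAt_of_iso snd p (DerivedCategory.Q.mapIso e3) 0 0 (h2 p)

/-- **base change of relative flat amplitude** (`f` flat) -/
theorem hasRelFlatAmplitudeIn_Lpull_fibre (h : IsPullback fst snd f g) [Flat f]
    [DCoh.HasLpull fst] (E : DCoh.D X) (a b : ℤ) (hE : DCoh.HasRelFlatAmplitudeIn f a b E) :
    DCoh.HasRelFlatAmplitudeIn snd a b ((DCoh.Lpull fst).obj E) := by
  obtain ⟨E₀, hv, hfl, ⟨e⟩⟩ := hE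
  have hk : KFS f E₀ := kfs_of_flat_terms f E₀ b (fun i hi => hv i (Or.inr hi)) hfl
  obtain ⟨e1⟩ := nonempty_lpullIso_of_kfs h E₀ hk
  exact ⟨((Scheme.Modules.pullback fst).mapHomologicalComplex (ComplexShape.up ℤ)).obj E₀,
    fun i hi => (Scheme.Modules.pullback fst).map_isZero (hv i hi),
    fun i => isFlatOver_pullback_fibre h (E₀.X i) (hfl i),
    ⟨e1.symm ≪≫ (DCoh.Lpull fst).mapIso e⟩⟩

end Groth.Agent.Lib.Helper5.FibStalk
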