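import Mathlib
import Groth.Agent.Lib.Helper5.FibStalk.RelFlat
import Groth.Agent.Lib.Helper5.Perf.LpullPC

/-!
# Base change of relatively perfect objects (helper5)
-/
set_option autoImplicit false
set_option linter.unusedSectionVars false
set_option linter.unusedVariables false
set_option linter.style.haveILetI false
universe u
open CategoryTheory CategoryTheory.Limits MonoidalCategory AlgebraicGeometry
attribute [local instance] HasDerivedCategory.standard

namespace Groth.Agent.Lib.Helper5.FibStalk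

open Groth.Agent.Lib.Helper5.LpullLib Groth.Agent.Lib.Helper5.DerSchTor
open Groth.Agent.Lib.Helper5.FlatSingle Groth.Agent.Lib.Helper5.FlatTerms

variable {X Y S P : Scheme.{u}} {fst : P ⟶ X} {snd : P ⟶ Y} {f : X ⟶ S} {g : Y ⟶ S}

theorem hasRelFlatAmplitudeIn_of_iso (f : X ⟶ S) {K K' : DCoh.D X} (e : K ≅ K') (a b : ℤ)
    (h : DCoh.HasRelFlatAmplitudeIn f a b K) : DCoh.HasRelFlatAmplitudeIn f a b K' := by
  obtain ⟨E, h1, h2, ⟨e'⟩⟩ := h
  exact ⟨E, h1, h2, ⟨e' ≪≫ e⟩⟩

/-- the restriction of a fibre product to the preimage of an open of the first factor -/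
theorem isPullback_restrict (h : IsPullback fst snd f g) (V : X.Opens) :
    IsPullback (fst ∣_ V) ((fst ⁻¹ᵁ V).ι ≫ snd) (V.ι ≫ f) g :=
  (isPullback_morphismRestrict fst V).paste_vert h

/-- **base change of local finiteness of relative tor dimension** (`f` flat) -/
theorem locHasFiniteRelTorDim_Lpull_fibre (h : IsPullback fst snd f g) [Flat f]
    [DCoh.HasLpull fst] (K : DCoh.D X) (hK : DCoh.LocHasFiniteRelTorDim f K) :
    DCoh.LocHasFiniteRelTorDim snd ((DCoh.Lpull fst).obj K) := by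
  intro p
  obtain ⟨V, a, b, hxV, hV⟩ := hK (fst.base p)
  refine ⟨fst ⁻¹ᵁ V, a, b, hxV, fun F' ⟨eF'⟩ => ?_⟩
  obtain ⟨P', hP', ⟨eP⟩⟩ := exists_cell_repr K
  have h1 := hV P' ⟨eP⟩
  let q : (↑(fst ⁻¹ᵁ V) : Scheme.{u}) ⟶ ↑V := fst ∣_ V
  haveI : DCoh.HasLpull q := hasLpull q
  have h2 := hasRelFlatAmplitudeIn_Lpull_fibre (isPullback_restrict h V) _ a b h1
  have j := restrictLpullIso fst V P' hP' F' (eF' ≪≫ (DCoh.Lpull fst).mapIso eP.symm)
  have e2 := lpullObjIso q ((DCoh.restrictCx V).obj P') (kft_of_cell (cell_restrictCx V hP'))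
  exact hasRelFlatAmplitudeIn_of_iso _ (e2 ≪≫ j.symm) a b h2

/-- **base change of relatively perfect objects** (`f` flat) -/
theorem relPerfect_Lpull_fibre (h : IsPullback fst snd f g) [Flat f]
    [DCoh.HasLpull fst] (K : DCoh.D X)
    (hK : (∀ m : ℤ, DCoh.IsPseudoCoherentD m K) ∧ DCoh.LocHasFiniteRelTorDim f K) :
    (∀ m : ℤ, DCoh.IsPseudoCoherentD m ((DCoh.Lpull fst).obj K)) ∧
      DCoh.LocHasFiniteRelTorDim snd ((DCoh.Lpull fst).obj K) :=
  ⟨fun m => isPseudoCoherentD_Lpull fst m K (hK.1 m), locHasFiniteRelTorDim_Lpull_fibre h K hK.2⟩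

end Groth.Agent.Lib.Helper5.FibStalk
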